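import Mathlib
import Cfsg.Prelude.Def_CaseTheorems
import Cfsg.Agent.Lib.Helper8.Components
import Cfsg.Agent.Lib.Helper17.Cores
import Cfsg.Agent.Lib.Helper14.SLGen

set_option autoImplicit false

namespace Cfsg.Agent.Lib.Helper14.CompType

open Matrix

theorem quasisimple_range {S X : Type*} [Group S] [Group X] (hS : Cfsg.IsQuasisimple S)
    (g : S →* X) (hg : g.ker ≠ ⊤) : Cfsg.IsQuasisimple g.range := by
  rw [Cfsg.Agent.Lib.Helper8.isQuasisimple_iff] at hS ⊢
  obtain ⟨hp, hnt, hN⟩ := hS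
  have hsurj : Function.Surjective g.rangeRestrict := g.rangeRestrict_surjective
  refine ⟨Group.IsPerfect.ofSurjective hsurj, ?_, ?_⟩
  · by_contra hcon
    rw [not_nontrivial_iff_subsingleton] at hcon
    apply hg
    rw [eq_top_iff]; intro s _
    rw [MonoidHom.mem_ker]
    have := Subsingleton.elim (g.rangeRestrict s) 1
    exact congrArg Subtype.val this
  · intro N hNn
    rcases hN (N.comap g.rangeRestrict) (hNn.comap _) with h | h
    · left
      rw [eq_top_iff]; intro x _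
      obtain ⟨s, rfl⟩ := hsurj x
      have : s ∈ N.comap g.rangeRestrict := h ▸ Subgroup.mem_top s
      exact this
    · right
      intro x hx
      obtain ⟨s, rfl⟩ := hsurj x
      rw [Subgroup.mem_center_iff]
      intro y
      obtain ⟨u, rfl⟩ := hsurj y
      have := Subgroup.mem_center_iff.1 (h (show s ∈ N.comap g.rangeRestrict from hx)) u
      rw [← map_mul, ← map_mul, this]

theorem hasComponent_of {S X : Type*} [Group S] [Group X] [Finite X]
    (hS : Cfsg.IsQuasisimple S) (t : X) (f : S →* X) (hf : Function.Injective f)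
    (hc : ∀ s, f s * t = t * f s)
    (hnorm : ∀ c : X, c * t = t * c → ∀ s, ∃ s', c * f s * c⁻¹ = f s')
    (z : S) (hz : orderOf z = 2) :
    Cfsg.HasComponent (↥(Subgroup.centralizer ({t} : Set X)) ⧸
      Cfsg.oddCore ↥(Subgroup.centralizer ({t} : Set X))) := by
  let f' : S →* ↥(Subgroup.centralizer ({t} : Set X)) :=
    f.codRestrict (Subgroup.centralizer ({t} : Set X)) (fun s => by
      rw [Subgroup.mem_centralizer_singleton_iff]; exact hc s)
  have hf' : Function.Injective f' := fun a b h => hf (congrArg Subtype.val h)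
  let g : S →* ↥(Subgroup.centralizer ({t} : Set X)) ⧸
      Cfsg.oddCore ↥(Subgroup.centralizer ({t} : Set X)) := (QuotientGroup.mk' _).comp f'
  refine ⟨g.range, ?_, quasisimple_range hS g ?_⟩
  · apply Subgroup.Normal.isSubnormal
    constructor
    rintro _ ⟨s, rfl⟩ x
    obtain ⟨c, rfl⟩ := QuotientGroup.mk'_surjective _ x
    obtain ⟨s', hs'⟩ := hnorm c.1 (Subgroup.mem_centralizer_singleton_iff.1 c.2) s
    refine ⟨s', ?_⟩
    have : f' s' = c * f' s * c⁻¹ := Subtype.ext hs'.symm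
    change QuotientGroup.mk' _ (f' s') = _
    rw [this]
    simp [g]
  · intro h
    have hz1 : z ∈ g.ker := h ▸ Subgroup.mem_top z
    rw [MonoidHom.mem_ker] at hz1
    have hz2 : f' z ∈ Cfsg.oddCore ↥(Subgroup.centralizer ({t} : Set X)) :=
      (QuotientGroup.eq_one_iff _).1 hz1
    have hord : orderOf (f' z) = 2 := by rw [orderOf_injective f' hf' z, hz]
    have hdvd : 2 ∣ Nat.card (Cfsg.oddCore ↥(Subgroup.centralizer ({t} : Set X))) := by
      have := orderOf_dvd_natCard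
        (⟨f' z, hz2⟩ : Cfsg.oddCore ↥(Subgroup.centralizer ({t} : Set X)))
      rwa [Subgroup.orderOf_mk, hord] at this
    have hcop := Cfsg.Agent.Lib.Helper17.pPrimeCore_coprime
      (G := ↥(Subgroup.centralizer ({t} : Set X))) 2
    exact absurd (Nat.Coprime.eq_one_of_dvd hcop.symm hdvd) (by norm_num)

theorem hasComponent_of_equiv {S X Y : Type*} [Group S] [Group X] [Group Y] [Finite X]
    (E : Y ≃* X)
    (hS : Cfsg.IsQuasisimple S) (t : Y) (f : S →* Y) (hf : Function.Injective f)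
    (hc : ∀ s, f s * t = t * f s)
    (hnorm : ∀ c : Y, c * t = t * c → ∀ s, ∃ s', c * f s * c⁻¹ = f s')
    (z : S) (hz : orderOf z = 2) :
    Cfsg.HasComponent (↥(Subgroup.centralizer ({E t} : Set X)) ⧸
      Cfsg.oddCore ↥(Subgroup.centralizer ({E t} : Set X))) := by
  refine hasComponent_of hS (E t) (E.toMonoidHom.comp f) (E.injective.comp hf) ?_ ?_ z hz
  · intro s
    change E (f s) * E t = E t * E (f s)
    rw [← map_mul, ← map_mul, hc]
  · intro c hct s
    obtain ⟨c, rfl⟩ := E.surjective c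
    obtain ⟨s', hs'⟩ := hnorm c (E.injective (by rw [map_mul, map_mul, hct])) s
    refine ⟨s', ?_⟩
    change E c * E (f s) * (E c)⁻¹ = E (f s')
    rw [← hs', map_mul, map_mul, map_inv]


section mat

variable {F : Type*} [Field F]

theorem SL_quasisimple (m : ℕ) (h : 3 ≤ m ∨ (m = 2 ∧ 4 ≤ Nat.card F)) :
    Cfsg.IsQuasisimple (SpecialLinearGroup (Fin m) F) := by
  rcases h with h | ⟨rfl, h⟩
  · exact ⟨⟨Cfsg.Agent.Lib.Helper14.SL_commutator_eq_top (by simpa using h)⟩,
      Cfsg.Agent.Lib.Helper14.PSL_isSimpleGroup (by simpa using h)⟩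
  · have hex : ∃ a : F, a ≠ 0 ∧ a ^ 2 ≠ 1 := by
      have : Finite F := (Nat.card_pos_iff.1 (by omega)).2
      obtain ⟨x, hx⟩ : IsCyclic Fˣ := by infer_instance
      refine ⟨x, Units.ne_zero x, fun h' ↦ ?_⟩
      grw [Nat.card_eq_card_units_add_one F, ← orderOf_eq_card_of_forall_mem_zpowers hx,
        orderOf_le_of_pow_eq_one zero_lt_two (Units.ext <| by simpa using h')] at h
      omega
    obtain ⟨a, ha, ha2⟩ := hex
    exact ⟨⟨Matrix.SL2.commutator_eq_top ha ha2⟩,
      Matrix.ProjectiveSpecialLinearGroup.rank_two_simple h⟩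

theorem SL_involution (k : ℕ) (h2 : (2 : F) ≠ 0) :
    ∃ z : SpecialLinearGroup (Fin (k + 2)) F, orderOf z = 2 := by
  obtain ⟨d, hd0, hd, hprod⟩ : ∃ d : Fin (k + 2) → F, d 0 = -1 ∧ (∀ i, d i * d i = 1) ∧
      ∏ i, d i = 1 := by
    refine ⟨Fin.cons (-1) (Fin.cons (-1) fun _ => 1), by simp, ?_, ?_⟩
    · intro i
      refine Fin.cases ?_ (fun i => ?_) i
      · simp
      · refine Fin.cases ?_ (fun i => ?_) i
        · simp
        · simp
    · rw [Fin.prod_univ_succ, Fin.prod_univ_succ]; simp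
  obtain ⟨z, hz⟩ : ∃ z : SpecialLinearGroup (Fin (k + 2)) F, z.1 = diagonal d :=
    ⟨⟨diagonal d, by rw [det_diagonal, hprod]⟩, rfl⟩
  refine ⟨z, orderOf_eq_prime ?_ ?_⟩
  · rw [pow_two]
    apply Subtype.ext
    change z.1 * z.1 = 1
    rw [hz, diagonal_mul_diagonal, ← diagonal_one]
    congr 1
    funext i
    exact hd i
  · intro h
    have h1 := congrArg (fun M : SpecialLinearGroup (Fin (k + 2)) F => M.1 0 0) h
    simp only [hz] at h1
    simp [hd0] at h1
    apply h2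
    linear_combination -h1

end mat


section blocks

variable {F : Type*} [Field F] {m : ℕ}

def blk (F : Type*) [Field F] (m : ℕ) :
    Matrix (Fin m) (Fin m) F →* Matrix (Fin 1 ⊕ Fin m) (Fin 1 ⊕ Fin m) F where
  toFun M := fromBlocks 1 0 0 M
  map_one' := fromBlocks_one
  map_mul' A B := by simp [fromBlocks_multiply]

def f₀ (F : Type*) [Field F] (m : ℕ) :
    SpecialLinearGroup (Fin m) F →* GL (Fin 1 ⊕ Fin m) F :=
  (Units.map (blk F m)).comp SpecialLinearGroup.toGL

theorem f₀_val (s : SpecialLinearGroup (Fin m) F) : (f₀ F m s).1 = fromBlocks 1 0 0 s.1 := rfl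

def t₀ (F : Type*) [Field F] (m : ℕ) : GL (Fin 1 ⊕ Fin m) F :=
  ⟨fromBlocks (-1) 0 0 1, fromBlocks (-1) 0 0 1, by simp [fromBlocks_multiply],
    by simp [fromBlocks_multiply]⟩

theorem t₀_val : (t₀ F m).1 = fromBlocks (-1) 0 0 1 := rfl

theorem comm_blocks (h2 : (2 : F) ≠ 0) (A : Matrix (Fin 1) (Fin 1) F) (B : Matrix (Fin 1) (Fin m) F)
    (C : Matrix (Fin m) (Fin 1) F) (D : Matrix (Fin m) (Fin m) F)
    (h : fromBlocks A B C D * fromBlocks (-1) 0 0 1 = fromBlocks (-1) 0 0 1 * fromBlocks A B C D) :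
    B = 0 ∧ C = 0 := by
  rw [fromBlocks_multiply, fromBlocks_multiply, fromBlocks_inj] at h
  obtain ⟨-, h12, h21, -⟩ := h
  have h12' : B = -B := by simpa using h12
  have h21' : -C = C := by simpa using h21
  constructor
  · ext i j
    have := congrFun (congrFun h12' i) j
    rw [Matrix.neg_apply] at this
    have h3 : (2 : F) * B i j = 0 := by linear_combination this
    simpa [h2] using h3
  · ext i j
    have := congrFun (congrFun h21' i) j
    rw [Matrix.neg_apply] at this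
    have h3 : (2 : F) * C i j = 0 := by linear_combination -this
    simpa [h2] using h3

theorem f₀_injective : Function.Injective (f₀ F m) := by
  intro a b h
  have h1 := congrArg Units.val h
  rw [f₀_val, f₀_val, fromBlocks_inj] at h1
  exact Subtype.ext h1.2.2.2

theorem f₀_comm (s : SpecialLinearGroup (Fin m) F) : f₀ F m s * t₀ F m = t₀ F m * f₀ F m s := by
  apply Units.ext
  rw [Units.val_mul, Units.val_mul, f₀_val, t₀_val]
  simp [fromBlocks_multiply]

theorem f₀_norm (h2 : (2 : F) ≠ 0) (c : GL (Fin 1 ⊕ Fin m) F) (hc : c * t₀ F m = t₀ F m * c)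
    (s : SpecialLinearGroup (Fin m) F) : ∃ s', c * f₀ F m s * c⁻¹ = f₀ F m s' := by
  have hc1 : c.1 * fromBlocks (-1) 0 0 1 = fromBlocks (-1) 0 0 1 * c.1 := congrArg Units.val hc
  have hc' : c⁻¹ * t₀ F m = t₀ F m * c⁻¹ := (Commute.inv_left (show Commute c (t₀ F m) from hc)).eq
  have hc2 : (c⁻¹).1 * fromBlocks (-1) 0 0 1 = fromBlocks (-1) 0 0 1 * (c⁻¹).1 :=
    congrArg Units.val hc'
  obtain ⟨A, B, C, D, hM⟩ : ∃ A B C D, c.1 = fromBlocks A B C D :=
    ⟨_, _, _, _, (fromBlocks_toBlocks c.1).symm⟩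
  obtain ⟨A', B', C', D', hM'⟩ : ∃ A B C D, (c⁻¹).1 = fromBlocks A B C D :=
    ⟨_, _, _, _, (fromBlocks_toBlocks _).symm⟩
  rw [hM] at hc1
  rw [hM'] at hc2
  obtain ⟨rfl, rfl⟩ := comm_blocks h2 _ _ _ _ hc1
  obtain ⟨rfl, rfl⟩ := comm_blocks h2 _ _ _ _ hc2
  have hmul : c.1 * (c⁻¹).1 = 1 := by rw [← Units.val_mul, mul_inv_cancel, Units.val_one]
  rw [hM, hM', fromBlocks_multiply, ← fromBlocks_one, fromBlocks_inj] at hmul
  have hA : A * A' = 1 := by simpa using hmul.1
  have hD : D * D' = 1 := by simpa using hmul.2.2.2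
  obtain ⟨s', hs'⟩ : ∃ s' : SpecialLinearGroup (Fin m) F, s'.1 = D * s.1 * D' :=
    ⟨⟨D * s.1 * D', by rw [det_mul, det_mul, s.2, mul_one, ← det_mul, hD, det_one]⟩, rfl⟩
  refine ⟨s', ?_⟩
  apply Units.ext
  rw [Units.val_mul, Units.val_mul, hM, hM', f₀_val, f₀_val, hs']
  simp [fromBlocks_multiply, hA]

theorem orderOf_t₀ (h2 : (2 : F) ≠ 0) : orderOf (t₀ F m) = 2 := by
  refine orderOf_eq_prime ?_ ?_
  · rw [pow_two]
    apply Units.ext
    rw [Units.val_mul, t₀_val]
    simp [fromBlocks_multiply]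
  · intro h
    have h1 := congrArg Units.val h
    rw [t₀_val, Units.val_one, ← fromBlocks_one, fromBlocks_inj] at h1
    have h3 := congrFun (congrFun h1.1 0) 0
    simp at h3
    apply h2
    linear_combination -h3

theorem t₀_not_center (h2 : (2 : F) ≠ 0) (hm : 0 < m) :
    t₀ F m ∉ Subgroup.center (GL (Fin 1 ⊕ Fin m) F) := by
  intro h
  rw [Subgroup.mem_center_iff] at h
  obtain ⟨B, hB⟩ : ∃ B : Matrix (Fin 1) (Fin m) F, B 0 ⟨0, hm⟩ = 1 :=
    ⟨Matrix.of fun _ _ => 1, rfl⟩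
  obtain ⟨u, hu⟩ : ∃ u : GL (Fin 1 ⊕ Fin m) F, u.1 = fromBlocks 1 B 0 1 :=
    ⟨⟨fromBlocks 1 B 0 1, fromBlocks 1 (-B) 0 1,
      by simp [fromBlocks_multiply], by simp [fromBlocks_multiply]⟩, rfl⟩
  have h1 : u.1 * (t₀ F m).1 = (t₀ F m).1 * u.1 := by
    rw [← Units.val_mul, ← Units.val_mul, h u]
  rw [hu, t₀_val] at h1
  have h3 := (comm_blocks h2 _ _ _ _ h1).1
  have h4 := congrFun (congrFun h3 0) ⟨0, hm⟩
  rw [hB] at h4
  simp at h4

end blocks

theorem main {F : Type*} [Field F] [Fintype F] (hF : Odd (Fintype.card F)) (n : ℕ) (hn : 3 ≤ n)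
    (h33 : ¬ (n = 3 ∧ Fintype.card F = 3)) :
    ∃ t : Matrix.GeneralLinearGroup (Fin n) F, orderOf t = 2 ∧
      t ∉ Subgroup.center (Matrix.GeneralLinearGroup (Fin n) F) ∧
      Cfsg.HasComponent (↥(Subgroup.centralizer ({t} : Set (Matrix.GeneralLinearGroup (Fin n) F))) ⧸
        Cfsg.oddCore ↥(Subgroup.centralizer ({t} : Set (Matrix.GeneralLinearGroup (Fin n) F)))) := by
  have h2 : (2 : F) ≠ 0 := by
    apply Ring.two_ne_zero
    intro h
    have := FiniteField.even_card_iff_char_two.1 h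
    obtain ⟨r, hr⟩ := hF
    omega
  obtain ⟨k, rfl⟩ : ∃ k, n = 1 + (k + 2) := ⟨n - 3, by omega⟩
  let E : GL (Fin 1 ⊕ Fin (k + 2)) F ≃* GL (Fin (1 + (k + 2))) F :=
    Units.mapEquiv (Matrix.reindexAlgEquiv F F finSumFinEquiv).toMulEquiv
  have hq : Cfsg.IsQuasisimple (SpecialLinearGroup (Fin (k + 2)) F) := by
    apply SL_quasisimple
    rcases Nat.eq_zero_or_pos k with rfl | hk
    · right
      refine ⟨rfl, ?_⟩
      rw [Nat.card_eq_fintype_card]
      have h1 : 1 < Fintype.card F := Fintype.one_lt_card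
      obtain ⟨r, hr⟩ := hF
      have : Fintype.card F ≠ 3 := fun h => h33 ⟨rfl, h⟩
      omega
    · left; omega
  obtain ⟨z, hz⟩ := SL_involution (F := F) k h2
  refine ⟨E (t₀ F (k + 2)), ?_, ?_, ?_⟩
  · rw [MulEquiv.orderOf_eq, orderOf_t₀ h2]
  · intro h
    apply t₀_not_center (F := F) (m := k + 2) h2 (by omega)
    rw [Subgroup.mem_center_iff] at h ⊢
    intro y
    apply E.injective
    rw [map_mul, map_mul, h]
  · exact hasComponent_of_equiv E hq (t₀ F (k + 2)) (f₀ F (k + 2)) f₀_injective f₀_comm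
      (f₀_norm h2) z hz

end Cfsg.Agent.Lib.Helper14.CompType
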