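import Mathlib

set_option autoImplicit false

namespace Cfsg.Agent.Lib.Helper14.Derang

open MulAction

/-- Orbits of a Sylow `p`-subgroup of a transitive group have length divisible by the `p`-part of the degree. -/
theorem pow_dvd_card_orbit {G Ω : Type*} [Group G] [Finite G] [MulAction G Ω] [Finite Ω]
    (htr : IsPretransitive G Ω) (p : ℕ) (hp : p.Prime) (H : Subgroup G)
    (hH : Nat.card H = p ^ (Nat.card G).factorization p)
    (k : ℕ) (hk : p ^ k ∣ Nat.card Ω) (ω : Ω) :
    p ^ k ∣ Nat.card (orbit H ω) := by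
  have h1 : Nat.card (orbit H ω) * Nat.card (stabilizer H ω) = Nat.card H := by
    rw [Nat.card_coe_set_eq, ← index_stabilizer, Subgroup.index_mul_card]
  have h2 : Nat.card Ω * Nat.card (stabilizer G ω) = Nat.card G := by
    have : orbit G ω = Set.univ := orbit_eq_univ G ω
    rw [← Subgroup.index_mul_card (stabilizer G ω), index_stabilizer, this, Set.ncard_univ]
  have h3 : Nat.card (stabilizer H ω) ∣ Nat.card (stabilizer G ω) := by
    have : (stabilizer H ω).map H.subtype ≤ stabilizer G ω := by
      rintro _ ⟨x, hx, rfl⟩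
      exact hx
    rw [← Subgroup.card_map_of_injective H.subtype_injective]
    exact Subgroup.card_dvd_of_le this
  obtain ⟨j, hj1, hj⟩ := (Nat.dvd_prime_pow hp).mp (hH ▸ Dvd.intro_left _ h1)
  have h4 : p ^ (k + j) ∣ Nat.card G := by
    rw [pow_add, ← h2, ← hj]; exact mul_dvd_mul hk h3
  have h5 : k + j ≤ (Nat.card G).factorization p :=
    (hp.pow_dvd_iff_le_factorization Nat.card_pos.ne').mp h4
  rw [hj, hH] at h1
  have : Nat.card (orbit H ω) = p ^ ((Nat.card G).factorization p - j) := by
    apply Nat.eq_of_mul_eq_mul_right (pow_pos hp.pos j)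
    rw [h1, ← pow_add]; congr 1; omega
  rw [this]
  exact pow_dvd_pow p (by omega)

end Cfsg.Agent.Lib.Helper14.Derang
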