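import Mathlib

set_option autoImplicit false

namespace Cfsg.Agent.Lib.Helper14

open Module

/-- counting through a map with fibres of constant size -/
theorem card_eq_mul_of_fibers {X Y : Type*} [Finite X] [Finite Y] (f : X → Y) (c : ℕ)
    (h : ∀ y, Nat.card {x // f x = y} = c) : Nat.card X = Nat.card Y * c := by
  classical
  haveI := Fintype.ofFinite Y
  rw [← Nat.card_congr (Equiv.sigmaFiberEquiv f), Nat.card_sigma]
  simp [h, Nat.card_eq_fintype_card]

variable {K V : Type*} [Field K] [Fintype K] [AddCommGroup V] [Module K V] [Finite V]

/-- The number of frames spanning a subspace with property `P` is the number of such subspaces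
times the order of `GL_k`. -/
theorem card_frames (k : ℕ) (P : Submodule K V → Prop) :
    Nat.card {s : Fin k → V // LinearIndependent K s ∧ P (Submodule.span K (Set.range s))} =
      Nat.card {W : Submodule K V // finrank K W = k ∧ P W} *
        ∏ i : Fin k, (Fintype.card K ^ k - Fintype.card K ^ (i : ℕ)) := by
  classical
  haveI : Module.Finite K V := Module.Finite.of_finite
  let f : {s : Fin k → V // LinearIndependent K s ∧ P (Submodule.span K (Set.range s))} →
      {W : Submodule K V // finrank K W = k ∧ P W} := fun s =>
    ⟨Submodule.span K (Set.range s.1), by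
      rw [finrank_span_eq_card s.2.1, Fintype.card_fin], s.2.2⟩
  haveI : Finite {W : Submodule K V // finrank K W = k ∧ P W} :=
    Finite.of_injective (fun W => (W.1 : Set V)) (fun a b h => Subtype.ext (SetLike.coe_injective h))
  refine card_eq_mul_of_fibers f _ fun W => ?_
  have h1 := card_linearIndependent (K := K) (V := W.1) (k := k) (le_of_eq W.2.1.symm)
  rw [W.2.1] at h1
  rw [← h1]
  refine Nat.card_congr
    { toFun := fun s => ⟨fun i => ⟨s.1.1 i, ?_⟩, ?_⟩
      invFun := fun t => ⟨⟨fun i => (t.1 i : V), ?_, ?_⟩, ?_⟩
      left_inv := fun s => rfl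
      right_inv := fun t => rfl }
  · have := congrArg Subtype.val s.2
    change Submodule.span K (Set.range s.1.1) = W.1 at this
    rw [← this]
    exact Submodule.subset_span ⟨i, rfl⟩
  · apply LinearIndependent.of_comp W.1.subtype
    exact s.1.2.1
  · exact t.2.map' W.1.subtype (Submodule.ker_subtype _)
  · have hLI : LinearIndependent K (fun i => (t.1 i : V)) :=
      t.2.map' W.1.subtype (Submodule.ker_subtype _)
    have hle : Submodule.span K (Set.range fun i => (t.1 i : V)) ≤ W.1 := by
      rw [Submodule.span_le]
      rintro _ ⟨i, rfl⟩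
      exact (t.1 i).2
    have := Submodule.eq_of_le_of_finrank_eq hle (by
      rw [finrank_span_eq_card hLI, Fintype.card_fin, W.2.1])
    rw [this]
    exact W.2.2
  · have hLI : LinearIndependent K (fun i => (t.1 i : V)) :=
      t.2.map' W.1.subtype (Submodule.ker_subtype _)
    have hle : Submodule.span K (Set.range fun i => (t.1 i : V)) ≤ W.1 := by
      rw [Submodule.span_le]
      rintro _ ⟨i, rfl⟩
      exact (t.1 i).2
    apply Subtype.ext
    exact Submodule.eq_of_le_of_finrank_eq hle (by
      rw [finrank_span_eq_card hLI, Fintype.card_fin, W.2.1])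

end Cfsg.Agent.Lib.Helper14
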