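import Mathlib
import Cfsg.Prelude.Def_ClassicalGeometry

set_option autoImplicit false

namespace Cfsg.Agent.Lib.Helper14

open Matrix

variable {F : Type*} [Field F]

section abstract

variable {V : Type*} [AddCommGroup V] [Module F V]

/-- isometry group of an arbitrary function of two variables -/
def isoG (β : V → V → F) : Subgroup (V ≃ₗ[F] V) where
  carrier := {g | ∀ u v, β (g u) (g v) = β u v}
  mul_mem' := fun {a b} ha hb u v => by
    change β (a (b u)) (a (b v)) = _
    rw [ha, hb]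
  one_mem' := fun u v => rfl
  inv_mem' := fun {a} ha u v => by
    have := ha (a.symm u) (a.symm v)
    rw [LinearEquiv.apply_symm_apply, LinearEquiv.apply_symm_apply] at this
    exact this.symm

theorem mem_isoG {β : V → V → F} {g : V ≃ₗ[F] V} :
    g ∈ isoG β ↔ ∀ u v, β (g u) (g v) = β u v := Iff.rfl

/-- stabiliser of a subspace in the isometry group -/
def isoStab (β : V → V → F) (W : Submodule F V) : Subgroup (isoG β) where
  carrier := {g | ∀ v, v ∈ W ↔ g.1 v ∈ W}
  mul_mem' := fun {a b} ha hb v => (hb v).trans (ha _)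
  one_mem' := fun v => Iff.rfl
  inv_mem' := fun {a} ha v => by
    have := ha (a.1.symm v)
    rw [LinearEquiv.apply_symm_apply] at this
    exact this.symm

/-- transport of the isometry group along an isometry -/
def isoGCongr {V₁ V₂ : Type*} [AddCommGroup V₁] [Module F V₁] [AddCommGroup V₂] [Module F V₂]
    (e : V₁ ≃ₗ[F] V₂) (β₁ : V₁ → V₁ → F) (β₂ : V₂ → V₂ → F)
    (h : ∀ x y, β₂ (e x) (e y) = β₁ x y) : isoG β₁ ≃* isoG β₂ where
  toFun g := ⟨(e.symm.trans g.1).trans e, fun u v => by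
    simp only [LinearEquiv.trans_apply]
    rw [h, g.2, ← h, LinearEquiv.apply_symm_apply, LinearEquiv.apply_symm_apply]⟩
  invFun g := ⟨(e.trans g.1).trans e.symm, fun u v => by
    simp only [LinearEquiv.trans_apply]
    rw [← h, LinearEquiv.apply_symm_apply, LinearEquiv.apply_symm_apply, g.2, h]⟩
  left_inv g := by
    apply Subtype.ext
    ext x
    simp
  right_inv g := by
    apply Subtype.ext
    ext x
    simp
  map_mul' g g' := by
    apply Subtype.ext
    ext x
    simp [LinearEquiv.mul_apply]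

/-- restriction of an automorphism to a stable subspace -/
def restrictEquiv (g : V ≃ₗ[F] V) (W : Submodule F V) (h : ∀ v, v ∈ W ↔ g v ∈ W) :
    W ≃ₗ[F] W where
  toFun x := ⟨g x, (h x).1 x.2⟩
  invFun x := ⟨g.symm x, (h _).2 (by rw [LinearEquiv.apply_symm_apply]; exact x.2)⟩
  map_add' x y := Subtype.ext (by simp)
  map_smul' c x := Subtype.ext (by simp)
  left_inv x := Subtype.ext (by simp)
  right_inv x := Subtype.ext (by simp)

theorem restrictEquiv_apply (g : V ≃ₗ[F] V) (W : Submodule F V) (h : ∀ v, v ∈ W ↔ g v ∈ W)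
    (x : W) : (restrictEquiv g W h x : V) = g x := rfl

/-- direct sum of automorphisms of two complementary subspaces -/
noncomputable def sumEquiv (W W' : Submodule F V) (hc : IsCompl W W') (a : W ≃ₗ[F] W)
    (b : W' ≃ₗ[F] W') : V ≃ₗ[F] V :=
  (Submodule.prodEquivOfIsCompl W W' hc).symm.trans
    ((a.prodCongr b).trans (Submodule.prodEquivOfIsCompl W W' hc))

theorem sumEquiv_add (W W' : Submodule F V) (hc : IsCompl W W') (a : W ≃ₗ[F] W)
    (b : W' ≃ₗ[F] W') (x : W) (y : W') :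
    sumEquiv W W' hc a b ((x : V) + y) = (a x : V) + b y := by
  have : (Submodule.prodEquivOfIsCompl W W' hc).symm ((x : V) + y) = (x, y) := by
    rw [LinearEquiv.symm_apply_eq]; rfl
  simp [sumEquiv, this]

theorem exists_decomp (W W' : Submodule F V) (hc : IsCompl W W') (v : V) :
    ∃ (x : W) (y : W'), v = (x : V) + y := by
  refine ⟨((Submodule.prodEquivOfIsCompl W W' hc).symm v).1,
    ((Submodule.prodEquivOfIsCompl W W' hc).symm v).2, ?_⟩
  rw [← Submodule.coe_prodEquivOfIsCompl' W W' hc, LinearEquiv.apply_symm_apply]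

variable (β : V → V → F) (W W' : Submodule F V) (hc : IsCompl W W')
  (hadd_l : ∀ u u' v, β (u + u') v = β u v + β u' v)
  (hadd_r : ∀ u v v', β u (v + v') = β u v + β u v')
  (hW' : ∀ v, v ∈ W' ↔ ∀ w ∈ W, β w v = 0) (hrefl : ∀ x y, β x y = 0 → β y x = 0)

include hW' in
theorem isoStab_stab' (g : isoG β) (hg : g ∈ isoStab β W) (v : V) : v ∈ W' ↔ g.1 v ∈ W' := by
  rw [hW', hW']
  constructor
  · intro h w hw
    have h1 : g.1.symm w ∈ W := by
      rw [hg, LinearEquiv.apply_symm_apply]; exact hw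
    have := h _ h1
    rw [← g.2, LinearEquiv.apply_symm_apply] at this
    exact this
  · intro h w hw
    rw [← g.2]
    exact h _ ((hg w).1 hw)

include hadd_l hadd_r hW' hrefl in
theorem sumEquiv_mem_isoG (a : isoG (fun x y : W => β x y)) (b : isoG (fun x y : W' => β x y)) :
    sumEquiv W W' hc a.1 b.1 ∈ isoG β := by
  intro u v
  obtain ⟨x, y, rfl⟩ := exists_decomp W W' hc u
  obtain ⟨x', y', rfl⟩ := exists_decomp W W' hc v
  rw [sumEquiv_add, sumEquiv_add]
  have h1 : ∀ (p : W) (r : W'), β p r = 0 := fun p r => (hW' r).1 r.2 p p.2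
  have h2 : ∀ (p : W) (r : W'), β r p = 0 := fun p r => hrefl _ _ (h1 p r)
  simp only [hadd_l, hadd_r, h1, h2, add_zero, zero_add]
  have ha : β (a.1 x) (a.1 x') = β x x' := a.2 x x'
  have hb : β (b.1 y) (b.1 y') = β y y' := b.2 y y'
  rw [ha, hb]

/-- The stabiliser of `W` in the isometry group is the product of the isometry groups of `W` and of
its orthogonal complement. -/
noncomputable def isoStabEquivProd :
    isoStab β W ≃* isoG (fun x y : W => β x y) × isoG (fun x y : W' => β x y) where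
  toFun g := (⟨restrictEquiv g.1.1 W g.2, fun x y => g.1.2 x y⟩,
    ⟨restrictEquiv g.1.1 W' (isoStab_stab' β W W' hW' g.1 g.2), fun x y => g.1.2 x y⟩)
  invFun p := ⟨⟨sumEquiv W W' hc p.1.1 p.2.1,
      sumEquiv_mem_isoG β W W' hc hadd_l hadd_r hW' hrefl p.1 p.2⟩, by
    intro v
    obtain ⟨x, y, rfl⟩ := exists_decomp W W' hc v
    change _ ↔ sumEquiv W W' hc p.1.1 p.2.1 _ ∈ W
    rw [sumEquiv_add, Submodule.add_mem_iff_right _ x.2, Submodule.add_mem_iff_right _ (p.1.1 x).2]
    have hz : ∀ z : W', (z : V) ∈ W ↔ z = 0 := by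
      intro z
      constructor
      · intro hz
        have := (Submodule.mem_bot F).1 (hc.inf_eq_bot ▸ Submodule.mem_inf.2 ⟨hz, z.2⟩)
        exact Subtype.ext this
      · rintro rfl; exact W.zero_mem
    rw [hz, hz]
    exact (LinearEquiv.map_eq_zero_iff _).symm⟩
  left_inv g := by
    apply Subtype.ext
    apply Subtype.ext
    ext v
    obtain ⟨x, y, rfl⟩ := exists_decomp W W' hc v
    change sumEquiv W W' hc _ _ _ = _
    rw [sumEquiv_add, map_add]
    rfl
  right_inv p := by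
    apply Prod.ext
    · apply Subtype.ext
      ext x
      change sumEquiv W W' hc p.1.1 p.2.1 (x : V) = _
      have := sumEquiv_add W W' hc p.1.1 p.2.1 x 0
      simpa using this
    · apply Subtype.ext
      ext y
      change sumEquiv W W' hc p.1.1 p.2.1 (y : V) = _
      have := sumEquiv_add W W' hc p.1.1 p.2.1 0 y
      simpa using this
  map_mul' g g' := by
    apply Prod.ext
    · apply Subtype.ext
      ext x
      rfl
    · apply Subtype.ext
      ext x
      rfl

end abstract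

section matrix

variable {H : Type*} [Group H] {ι : Type} [Fintype ι] [DecidableEq ι]

/-- the linear equivalence of an invertible matrix -/
def matEquiv (A A' : Matrix ι ι F) (h1 : A * A' = 1) (h2 : A' * A = 1) :
    (ι → F) ≃ₗ[F] (ι → F) where
  toFun v := A *ᵥ v
  invFun v := A' *ᵥ v
  map_add' u v := Matrix.mulVec_add A u v
  map_smul' c v := Matrix.mulVec_smul A c v
  left_inv v := by
    change A' *ᵥ (A *ᵥ v) = v
    rw [Matrix.mulVec_mulVec, h2, Matrix.one_mulVec]
  right_inv v := by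
    change A *ᵥ (A' *ᵥ v) = v
    rw [Matrix.mulVec_mulVec, h1, Matrix.one_mulVec]

/-- A matrix group consisting of all the matrices preserving `β` is the isometry group. -/
theorem exists_equiv_isoG (β : (ι → F) → (ι → F) → F) (toMat : H →* Matrix ι ι F)
    (hinj : Function.Injective toMat)
    (hpres : ∀ h u v, β (toMat h *ᵥ u) (toMat h *ᵥ v) = β u v)
    (hrange : ∀ A : Matrix ι ι F, IsUnit A → (∀ u v, β (A *ᵥ u) (A *ᵥ v) = β u v) →
      ∃ h, toMat h = A) :
    ∃ Φ : H ≃* isoG β, ∀ h v, (Φ h).1 v = toMat h *ᵥ v := by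
  let φ : H →* isoG β :=
    { toFun := fun h => ⟨matEquiv (toMat h) (toMat h⁻¹)
          (by rw [← map_mul, mul_inv_cancel, map_one])
          (by rw [← map_mul, inv_mul_cancel, map_one]), fun u v => hpres h u v⟩
      map_one' := by
        apply Subtype.ext
        ext v : 1
        change toMat 1 *ᵥ v = v
        rw [map_one, Matrix.one_mulVec]
      map_mul' := fun h h' => by
        apply Subtype.ext
        ext v : 1
        change toMat (h * h') *ᵥ v = toMat h *ᵥ (toMat h' *ᵥ v)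
        rw [map_mul, Matrix.mulVec_mulVec] }
  have hφ : ∀ h v, (φ h).1 v = toMat h *ᵥ v := fun h v => rfl
  have hbij : Function.Bijective φ := by
    constructor
    · intro h h' hh
      apply hinj
      apply Matrix.toLin'.injective
      apply LinearMap.ext
      intro v
      rw [Matrix.toLin'_apply, Matrix.toLin'_apply, ← hφ, ← hφ, hh]
    · intro g
      have hA : ∀ v, LinearMap.toMatrix' (g.1 : (ι → F) →ₗ[F] (ι → F)) *ᵥ v = g.1 v := by
        intro v
        rw [← Matrix.toLin'_apply, Matrix.toLin'_toMatrix']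
        rfl
      obtain ⟨h, hh⟩ := hrange (LinearMap.toMatrix' (g.1 : (ι → F) →ₗ[F] (ι → F))) (by
          refine ⟨⟨_, LinearMap.toMatrix' (g.1.symm : (ι → F) →ₗ[F] (ι → F)), ?_, ?_⟩, rfl⟩
          · rw [← LinearMap.toMatrix'_comp]
            simp
          · rw [← LinearMap.toMatrix'_comp]
            simp)
        (fun u v => by rw [hA, hA]; exact g.2 u v)
      refine ⟨h, ?_⟩
      apply Subtype.ext
      ext v : 1
      rw [hφ, hh, hA]
  exact ⟨MulEquiv.ofBijective φ hbij, hφ⟩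

/-- transport of a subgroup along an isomorphism -/
noncomputable def subgroupEquivOfIff {A B : Type*} [Group A] [Group B] (Φ : A ≃* B)
    (S : Subgroup A) (T : Subgroup B) (h : ∀ a, a ∈ S ↔ Φ a ∈ T) : S ≃* T :=
  (Φ.subgroupMap S).trans (MulEquiv.subgroupCongr (by
    ext b
    constructor
    · rintro ⟨a, ha, rfl⟩
      exact (h a).1 ha
    · intro hb
      exact ⟨Φ.symm b, (h _).2 (by rw [MulEquiv.apply_symm_apply]; exact hb),
        Φ.apply_symm_apply b⟩))

variable {H₁ H₂ : Type*} [Group H₁] [Group H₂] {ι₁ ι₂ : Type} [Fintype ι₁] [DecidableEq ι₁]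
  [Fintype ι₂] [DecidableEq ι₂]

/-- The stabiliser of a non-degenerate subspace is the product of the two smaller isometry
groups. -/
theorem nonempty_stabilizing_equiv_prod
    (β : (ι → F) → (ι → F) → F) (toMat : H →* Matrix ι ι F)
    (hinj : Function.Injective toMat)
    (hpres : ∀ h u v, β (toMat h *ᵥ u) (toMat h *ᵥ v) = β u v)
    (hrange : ∀ A : Matrix ι ι F, IsUnit A → (∀ u v, β (A *ᵥ u) (A *ᵥ v) = β u v) →
      ∃ h, toMat h = A)
    (β₁ : (ι₁ → F) → (ι₁ → F) → F) (toMat₁ : H₁ →* Matrix ι₁ ι₁ F)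
    (hinj₁ : Function.Injective toMat₁)
    (hpres₁ : ∀ h u v, β₁ (toMat₁ h *ᵥ u) (toMat₁ h *ᵥ v) = β₁ u v)
    (hrange₁ : ∀ A : Matrix ι₁ ι₁ F, IsUnit A → (∀ u v, β₁ (A *ᵥ u) (A *ᵥ v) = β₁ u v) →
      ∃ h, toMat₁ h = A)
    (β₂ : (ι₂ → F) → (ι₂ → F) → F) (toMat₂ : H₂ →* Matrix ι₂ ι₂ F)
    (hinj₂ : Function.Injective toMat₂)
    (hpres₂ : ∀ h u v, β₂ (toMat₂ h *ᵥ u) (toMat₂ h *ᵥ v) = β₂ u v)
    (hrange₂ : ∀ A : Matrix ι₂ ι₂ F, IsUnit A → (∀ u v, β₂ (A *ᵥ u) (A *ᵥ v) = β₂ u v) →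
      ∃ h, toMat₂ h = A)
    (W W' : Submodule F (ι → F)) (hc : IsCompl W W')
    (hadd_l : ∀ u u' v, β (u + u') v = β u v + β u' v)
    (hadd_r : ∀ u v v', β u (v + v') = β u v + β u v')
    (hW' : ∀ v, v ∈ W' ↔ ∀ w ∈ W, β w v = 0) (hrefl : ∀ x y, β x y = 0 → β y x = 0)
    (e₁ : (ι₁ → F) ≃ₗ[F] W) (he₁ : ∀ x y, β (e₁ x) (e₁ y) = β₁ x y)
    (e₂ : (ι₂ → F) ≃ₗ[F] W') (he₂ : ∀ x y, β (e₂ x) (e₂ y) = β₂ x y) :
    Nonempty (Cfsg.stabilizing toMat (W : Set (ι → F)) ≃* H₁ × H₂) := by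
  obtain ⟨Φ, hΦ⟩ := exists_equiv_isoG β toMat hinj hpres hrange
  obtain ⟨Φ₁, -⟩ := exists_equiv_isoG β₁ toMat₁ hinj₁ hpres₁ hrange₁
  obtain ⟨Φ₂, -⟩ := exists_equiv_isoG β₂ toMat₂ hinj₂ hpres₂ hrange₂
  have E1 : Cfsg.stabilizing toMat (W : Set (ι → F)) ≃* isoStab β W :=
    subgroupEquivOfIff Φ _ _ (fun a => by
      change (∀ v, v ∈ W ↔ toMat a *ᵥ v ∈ W) ↔ ∀ v, v ∈ W ↔ (Φ a).1 v ∈ W
      simp only [hΦ])
  have E2 := isoStabEquivProd β W W' hc hadd_l hadd_r hW' hrefl
  have E3 : isoG β₁ ≃* isoG (fun x y : W => β x y) := isoGCongr e₁ _ _ he₁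
  have E4 : isoG β₂ ≃* isoG (fun x y : W' => β x y) := isoGCongr e₂ _ _ he₂
  exact ⟨E1.trans (E2.trans (MulEquiv.prodCongr (E3.symm.trans Φ₁.symm) (E4.symm.trans Φ₂.symm)))⟩

end matrix

end Cfsg.Agent.Lib.Helper14
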