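import Mathlib
import Cfsg.Agent.Lib.Helper14.GUOrder
import Cfsg.Agent.Lib.Helper14.IsoDecomp
import Cfsg.Agent.S0755

set_option autoImplicit false

namespace Cfsg.Agent.Lib.Helper14

open Matrix

variable {F : Type*} [Field F] [Fintype F] {q n : ℕ}

theorem hermForm_eq_zero_symm (hF : Fintype.card F = q ^ 2) (u v : Fin n → F)
    (h : Cfsg.hermForm n F q u v = 0) : Cfsg.hermForm n F q v u = 0 := by
  rw [← hermForm_swap hF, h, zero_pow (q_ne_zero hF)]

/-- A subspace on which the Hermitian form is non-degenerate is isometric to the standard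
Hermitian space. -/
theorem exists_herm_equiv (hF : Fintype.card F = q ^ 2) (U : Submodule F (Fin n → F)) (k : ℕ)
    (hk : Module.finrank F U = k)
    (hU : ∀ u ∈ U, (∀ v ∈ U, Cfsg.hermForm n F q u v = 0) → u = 0) :
    ∃ e : (Fin k → F) ≃ₗ[F] U,
      ∀ x y, Cfsg.hermForm n F q (e x) (e y) = Cfsg.hermForm k F q x y := by
  classical
  obtain ⟨σ, hσ⟩ := exists_frob hF
  let B : U →ₛₗ[σ] U →ₗ[F] F :=
    LinearMap.mk₂'ₛₗ σ (RingHom.id F) (fun a b => Cfsg.hermForm n F q b.1 a.1)
      (fun a a' b => hermForm_add_right hF b.1 a.1 a'.1)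
      (fun c a b => by
        change Cfsg.hermForm n F q b.1 (c • a.1) = _
        rw [hermForm_smul_right, hσ]; rfl)
      (fun a b b' => hermForm_add_left b.1 b'.1 a.1)
      (fun c a b => by
        change Cfsg.hermForm n F q (c • b.1) a.1 = _
        rw [hermForm_smul_left]; rfl)
  have hBdef : ∀ a b : U, B a b = Cfsg.hermForm n F q b.1 a.1 := fun a b => rfl
  have hS : B.IsSymm := ⟨fun a b => by rw [hBdef, hBdef, hσ, hermForm_swap hF]⟩
  have hB : B.Nondegenerate := by
    constructor
    · intro x hx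
      exact Subtype.ext (hU x x.2 fun v hv => hermForm_eq_zero_symm hF _ _ (hx ⟨v, hv⟩))
    · intro y hy
      exact Subtype.ext (hU y y.2 fun v hv => hy ⟨v, hv⟩)
  obtain ⟨b, hb⟩ := Cfsg.Agent.S0755.result σ (frob_ne_id hF σ hσ)
    (fun a => by rw [hσ, hσ, pow_q_q hF]) B hS hB
  subst hk
  refine ⟨b.equivFun.symm, fun x y => ?_⟩
  rw [← hBdef, Module.Basis.equivFun_symm_apply, Module.Basis.equivFun_symm_apply]
  simp only [map_sum, LinearMap.sum_apply, LinearMap.map_smulₛₗ, LinearMap.smul_apply, map_smul,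
    hb, smul_eq_mul, hσ]
  unfold Cfsg.hermForm
  refine Finset.sum_congr rfl fun i _ => ?_
  simp [mul_comm]

/-- the orthogonal complement for the Hermitian form -/
def hermPerp (hF : Fintype.card F = q ^ 2) (W : Submodule F (Fin n → F)) :
    Submodule F (Fin n → F) where
  carrier := {v | ∀ w ∈ W, Cfsg.hermForm n F q w v = 0}
  add_mem' := fun {a b} ha hb w hw => by rw [hermForm_add_right hF, ha w hw, hb w hw, add_zero]
  zero_mem' := fun w _ => by simp [Cfsg.hermForm, q_ne_zero hF]
  smul_mem' := fun c a ha w hw => by rw [hermForm_smul_right, ha w hw, mul_zero]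

theorem mem_hermPerp (hF : Fintype.card F = q ^ 2) (W : Submodule F (Fin n → F)) (v : Fin n → F) :
    v ∈ hermPerp hF W ↔ ∀ w ∈ W, Cfsg.hermForm n F q w v = 0 := Iff.rfl

theorem hermForm_sub_left (u u' v : Fin n → F) :
    Cfsg.hermForm n F q (u - u') v = Cfsg.hermForm n F q u v - Cfsg.hermForm n F q u' v := by
  simp [Cfsg.hermForm, sub_mul, Finset.sum_sub_distrib]

theorem isCompl_hermPerp (hF : Fintype.card F = q ^ 2) (W : Submodule F (Fin n → F))
    (hW : ∀ u ∈ W, (∀ v ∈ W, Cfsg.hermForm n F q u v = 0) → u = 0) :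
    IsCompl W (hermPerp hF W) := by
  classical
  obtain ⟨e, he⟩ := exists_herm_equiv hF W _ rfl hW
  constructor
  · rw [Submodule.disjoint_def]
    intro x hx hx'
    exact hW x hx fun v hv => hermForm_eq_zero_symm hF _ _ (hx' v hv)
  · rw [codisjoint_iff, eq_top_iff]
    intro v _
    set c : Fin (Module.finrank F W) → F :=
      fun i => Cfsg.hermForm n F q v (e (Pi.single i 1)) with hc
    have h1 : v - (e c : Fin n → F) ∈ hermPerp hF W := by
      intro w hw
      apply hermForm_eq_zero_symm hF
      obtain ⟨y, rfl⟩ : ∃ y, (e y : Fin n → F) = w := ⟨e.symm ⟨w, hw⟩, by simp⟩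
      rw [hermForm_sub_left, he, sub_eq_zero]
      -- expand `y` in the standard basis
      have hy : y = ∑ i, y i • (Pi.single i 1 : Fin (Module.finrank F W) → F) := by
        ext j
        simp [Finset.sum_apply, Pi.single_apply]
      have hsum : ∀ (s : Finset (Fin (Module.finrank F W))),
          Cfsg.hermForm n F q v
            ((e (∑ i ∈ s, y i • (Pi.single i 1 : Fin (Module.finrank F W) → F)) : W) :
              Fin n → F) = ∑ i ∈ s, c i * y i ^ q := by
        intro s
        induction s using Finset.induction_on with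
        | empty => simp [Cfsg.hermForm, q_ne_zero hF]
        | insert a s ha ih =>
          rw [Finset.sum_insert ha, Finset.sum_insert ha, map_add, Submodule.coe_add,
            hermForm_add_right hF, ih, map_smul, Submodule.coe_smul, hermForm_smul_right, hc]
          ring
      conv_lhs => rw [hy]
      rw [hsum]
      rfl
    have : v = (e c : Fin n → F) + (v - (e c : Fin n → F)) := by abel
    rw [this]
    exact Submodule.add_mem_sup (e c).2 h1

theorem hermPerp_nondegenerate (hF : Fintype.card F = q ^ 2) (W : Submodule F (Fin n → F))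
    (hW : ∀ u ∈ W, (∀ v ∈ W, Cfsg.hermForm n F q u v = 0) → u = 0) :
    ∀ u ∈ hermPerp hF W, (∀ v ∈ hermPerp hF W, Cfsg.hermForm n F q u v = 0) → u = 0 := by
  intro u hu h
  have hc := isCompl_hermPerp hF W hW
  have h0 : ∀ z, Cfsg.hermForm n F q u z = 0 := by
    intro z
    obtain ⟨a, b, rfl⟩ := exists_decomp W _ hc z
    rw [hermForm_add_right hF, h b b.2, hermForm_eq_zero_symm hF _ _ (hu a a.2), add_zero]
  ext i
  have := h0 (Pi.single i 1)
  rw [hermForm_single_right (q_ne_zero hF)] at this
  exact this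

end Cfsg.Agent.Lib.Helper14
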