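import Mathlib
import Cfsg.Agent.Lib.Helper14.Frames
import Cfsg.Agent.Lib.Helper14.HermDecomp

set_option autoImplicit false

namespace Cfsg.Agent.Lib.Helper14

open Module Matrix

variable {F : Type*} [Field F] [Fintype F] {q n : ℕ}

/-- existence of an element of nonzero trace -/
theorem exists_trace_ne_zero (hF : Fintype.card F = q ^ 2) : ∃ s : F, s + s ^ q ≠ 0 := by
  by_contra h
  push Not at h
  obtain ⟨σ, hσ⟩ := exists_frob hF
  apply frob_ne_id hF σ hσ
  have h1 : (1 : F) + 1 = 0 := by simpa using h 1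
  ext x
  rw [hσ, RingHom.id_apply]
  have h2 := h x
  linear_combination h2 - x * h1

/-- (twisted) surjectivity of the trace -/
theorem exists_trace_eq (hF : Fintype.card F = q ^ 2) (b : F) (hb : b ≠ 0) (d : F)
    (hd : d ^ q = d) : ∃ t : F, t * b ^ q + t ^ q * b = d := by
  obtain ⟨s, hs⟩ := exists_trace_ne_zero hF
  have he : (s + s ^ q) ^ q = s + s ^ q := by rw [add_pow_q hF, pow_q_q hF, add_comm]
  have hbq : b ^ q ≠ 0 := pow_ne_zero _ hb
  refine ⟨d * (s + s ^ q)⁻¹ * s * (b ^ q)⁻¹, ?_⟩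
  rw [mul_pow, mul_pow, mul_pow, inv_pow, inv_pow, pow_q_q hF, hd, he]
  field_simp

/-- the fixed field of the Frobenius has `q` elements -/
theorem card_fixed (hF : Fintype.card F = q ^ 2) : Nat.card {c : F // c ^ q = c} = q := by
  classical
  let f : F → {c : F // c ^ q = c} := fun x => ⟨x ^ (q + 1), by
    rw [pow_succ, mul_pow, pow_q_q hF, mul_comm]⟩
  have h1 : Nat.card F = ∑ μ : {c : F // c ^ q = c}, Nat.card {x // f x = μ} := by
    rw [← Nat.card_congr (Equiv.sigmaFiberEquiv f), Nat.card_sigma]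
  have h2 : ∀ μ : {c : F // c ^ q = c}, Nat.card {x // f x = μ} + (if μ.1 = 0 then q else 0) =
      q + 1 := by
    intro μ
    have h3 : Nat.card {x // f x = μ} = Nat.card {x : F // x ^ (q + 1) = μ.1} :=
      Nat.card_congr (Equiv.subtypeEquivRight fun x => Subtype.ext_iff)
    rw [h3, card_norm_eq hF μ.1 μ.2]
    split_ifs <;> omega
  have h4 : ∑ μ : {c : F // c ^ q = c}, (if μ.1 = 0 then q else 0) = q := by
    rw [Finset.sum_eq_single (⟨0, zero_pow (q_ne_zero hF)⟩ : {c : F // c ^ q = c})]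
    · simp
    · intro b _ hb
      rw [if_neg]
      intro h
      exact hb (Subtype.ext h)
    · intro h; exact absurd (Finset.mem_univ _) h
  have h5 : Nat.card F + q = Nat.card {c : F // c ^ q = c} * (q + 1) := by
    have h7 : Nat.card F + q = ∑ μ : {c : F // c ^ q = c}, Nat.card {x // f x = μ} +
        ∑ μ : {c : F // c ^ q = c}, (if μ.1 = 0 then q else 0) := by rw [h4, ← h1]
    rw [h7, ← Finset.sum_add_distrib, Finset.sum_congr rfl (fun μ _ => h2 μ), Finset.sum_const,
      Finset.card_univ, smul_eq_mul, Nat.card_eq_fintype_card]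
  rw [Nat.card_eq_fintype_card, hF] at h5
  have h6 : q * (q + 1) = Nat.card {c : F // c ^ q = c} * (q + 1) := by rw [← h5]; ring
  exact (Nat.eq_of_mul_eq_mul_right (Nat.succ_pos q) h6).symm

omit [Fintype F] in
/-- the functional `h(·, u)` -/
def hermLin (q : ℕ) (u : Fin n → F) : (Fin n → F) →ₗ[F] F where
  toFun v := Cfsg.hermForm n F q v u
  map_add' a b := hermForm_add_left a b u
  map_smul' c a := hermForm_smul_left c a u

omit [Fintype F] in
/-- the map `v ↦ (h(v, x i))_i` -/
def hermL (q : ℕ) {ι : Type*} (x : ι → Fin n → F) : (Fin n → F) →ₗ[F] (ι → F) :=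
  LinearMap.pi fun i => hermLin q (x i)

omit [Fintype F] in
theorem hermL_apply {ι : Type*} (x : ι → Fin n → F) (v : Fin n → F) (i : ι) :
    hermL q x v i = Cfsg.hermForm n F q v (x i) := rfl

theorem hermForm_zero_right (hF : Fintype.card F = q ^ 2) (v : Fin n → F) :
    Cfsg.hermForm n F q v 0 = 0 := by
  simp [Cfsg.hermForm, q_ne_zero hF]

omit [Fintype F] in
theorem hermForm_zero_left (v : Fin n → F) : Cfsg.hermForm n F q 0 v = 0 := by
  simp [Cfsg.hermForm]

theorem hermForm_sum_right (hF : Fintype.card F = q ^ 2) {ι : Type*} (s : Finset ι)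
    (v : Fin n → F) (y : ι → Fin n → F) :
    Cfsg.hermForm n F q v (∑ i ∈ s, y i) = ∑ i ∈ s, Cfsg.hermForm n F q v (y i) := by
  classical
  induction s using Finset.induction_on with
  | empty => simp [hermForm_zero_right hF]
  | insert a s ha ih => rw [Finset.sum_insert ha, Finset.sum_insert ha, hermForm_add_right hF, ih]

theorem eq_zero_of_hermForm_right (hF : Fintype.card F = q ^ 2) (y : Fin n → F)
    (h : ∀ v, Cfsg.hermForm n F q v y = 0) : y = 0 := by
  classical
  ext i
  have := h (Pi.single i 1)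
  rw [hermForm_single_left] at this
  exact (pow_eq_zero_iff (q_ne_zero hF)).1 this

theorem hermL_surjective (hF : Fintype.card F = q ^ 2) {k : ℕ} (x : Fin k → Fin n → F)
    (hx : LinearIndependent F x) : Function.Surjective (hermL q x) := by
  classical
  rw [← LinearMap.range_eq_top]
  by_contra hne
  obtain ⟨f, hf0, hf⟩ := Submodule.exists_le_ker_of_lt_top _ (lt_top_iff_ne_top.2 hne)
  apply hf0
  have hz : ∑ i, (f (Pi.single i 1)) ^ q • x i = 0 := by
    apply eq_zero_of_hermForm_right hF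
    intro v
    have h1 : f (hermL q x v) = 0 := hf ⟨v, rfl⟩
    rw [hermForm_sum_right hF]
    have h3 : hermL q x v = ∑ i, (hermL q x v i) • (Pi.single i 1 : Fin k → F) := by
      ext j
      simp [Finset.sum_apply, Pi.single_apply]
    rw [h3, map_sum] at h1
    rw [← h1]
    refine Finset.sum_congr rfl fun i _ => ?_
    rw [hermForm_smul_right, pow_q_q hF, map_smul, hermL_apply, smul_eq_mul, mul_comm]
  have h2 := Fintype.linearIndependent_iff.1 hx _ hz
  apply LinearMap.pi_ext'
  intro i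
  ext
  simpa using (pow_eq_zero_iff (q_ne_zero hF)).1 (h2 i)

omit [Fintype F] in
theorem card_fiber_of_surjective {V W : Type*} [AddCommGroup V] [AddCommGroup W] [Finite V]
    [Finite W] (L : V →+ W) (hL : Function.Surjective L) (c : W) :
    Nat.card {v // L v = c} * Nat.card W = Nat.card V := by
  have h : ∀ y, Nat.card {v // L v = y} = Nat.card {v // L v = c} := by
    intro y
    obtain ⟨a, ha⟩ := hL (c - y)
    exact Nat.card_congr
      { toFun := fun v => ⟨v.1 + a, by rw [map_add, v.2, ha]; abel⟩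
        invFun := fun v => ⟨v.1 - a, by rw [map_sub, v.2, ha]; abel⟩
        left_inv := fun v => Subtype.ext (by simp)
        right_inv := fun v => Subtype.ext (by simp) }
  rw [card_eq_mul_of_fibers L _ h, mul_comm]

theorem card_hermL_fiber (hF : Fintype.card F = q ^ 2) {k : ℕ} (x : Fin k → Fin n → F)
    (hx : LinearIndependent F x) (c : Fin k → F) :
    Nat.card {v // hermL q x v = c} = (q ^ 2) ^ (n - k) := by
  have hk : k ≤ n := by
    have := hx.fintype_card_le_finrank
    simpa using this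
  have h1 := card_fiber_of_surjective (hermL q x).toAddMonoidHom (hermL_surjective hF x hx) c
  rw [Nat.card_eq_fintype_card (α := Fin k → F), Nat.card_eq_fintype_card (α := Fin n → F),
    Fintype.card_fun, Fintype.card_fun, Fintype.card_fin, Fintype.card_fin, hF] at h1
  have h2 : (q ^ 2) ^ n = (q ^ 2) ^ (n - k) * (q ^ 2) ^ k := by
    rw [← pow_add, Nat.sub_add_cancel hk]
  rw [h2] at h1
  have hq := q_ge_two hF
  exact Nat.eq_of_mul_eq_mul_right (by positivity) h1

theorem hermForm_add_smul_self (hF : Fintype.card F = q ^ 2) (v u : Fin n → F) (t : F)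
    (hu : Cfsg.hermForm n F q u u = 0) :
    Cfsg.hermForm n F q (v + t • u) (v + t • u) = Cfsg.hermForm n F q v v +
      (t * (Cfsg.hermForm n F q v u) ^ q + t ^ q * Cfsg.hermForm n F q v u) := by
  rw [hermForm_add_left, hermForm_add_right hF, hermForm_add_right hF, hermForm_smul_left,
    hermForm_smul_left, hermForm_smul_right, hermForm_smul_right, hu, hermForm_swap hF]
  ring

/-- number of isotropic vectors with prescribed non-zero products with an isotropic frame -/
theorem card_isotropic_fiber (hF : Fintype.card F = q ^ 2) {k : ℕ} (x : Fin k → Fin n → F)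
    (hx : LinearIndependent F x) (hiso : ∀ i j, Cfsg.hermForm n F q (x i) (x j) = 0)
    (c : Fin k → F) (hc : c ≠ 0) :
    q * Nat.card {v // Cfsg.hermForm n F q v v = 0 ∧ hermL q x v = c} = (q ^ 2) ^ (n - k) := by
  classical
  obtain ⟨i₀, hi₀⟩ : ∃ i, c i ≠ 0 := by
    by_contra h
    push Not at h
    exact hc (funext h)
  rw [← card_hermL_fiber hF x hx c]
  let f : {v // hermL q x v = c} → {d : F // d ^ q = d} := fun v =>
    ⟨Cfsg.hermForm n F q v.1 v.1, hermForm_self_pow hF n v.1⟩
  suffices hs : ∀ d, Nat.card {v // f v = d} =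
      Nat.card {v // Cfsg.hermForm n F q v v = 0 ∧ hermL q x v = c} by
    rw [card_eq_mul_of_fibers f _ hs, card_fixed hF]
  intro d
  obtain ⟨t, ht⟩ := exists_trace_eq hF (c i₀) hi₀ (-d.1) (by rw [neg_pow_q hF, d.2])
  have hLu : hermL q x (x i₀) = 0 := by
    ext i
    rw [hermL_apply]
    exact hiso i₀ i
  have hvu : ∀ v, hermL q x v = c → Cfsg.hermForm n F q v (x i₀) = c i₀ := by
    intro v hv
    rw [← hv, hermL_apply]
  refine Nat.card_congr
    { toFun := fun v => ⟨v.1.1 + t • x i₀, ?_, ?_⟩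
      invFun := fun w => ⟨⟨w.1 + (-t) • x i₀, ?_⟩, ?_⟩
      left_inv := fun v => Subtype.ext (Subtype.ext (by simp))
      right_inv := fun w => Subtype.ext (by simp) }
  · rw [hermForm_add_smul_self hF _ _ _ (hiso i₀ i₀), hvu _ v.1.2, ht]
    have := congrArg Subtype.val v.2
    change Cfsg.hermForm n F q v.1.1 v.1.1 = d.1 at this
    rw [this]; ring
  · rw [map_add, map_smul, hLu, smul_zero, add_zero, v.1.2]
  · rw [map_add, map_smul, hLu, smul_zero, add_zero, w.2.2]
  · apply Subtype.ext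
    change Cfsg.hermForm n F q (w.1 + (-t) • x i₀) (w.1 + (-t) • x i₀) = d.1
    rw [hermForm_add_smul_self hF _ _ _ (hiso i₀ i₀), hvu _ w.2.2, w.2.1, neg_pow_q hF]
    linear_combination -ht

/-- number of isotropic vectors perpendicular to an isotropic frame -/
theorem card_isotropic_perp (hF : Fintype.card F = q ^ 2) {k : ℕ} (x : Fin k → Fin n → F)
    (hx : LinearIndependent F x) (hiso : ∀ i j, Cfsg.hermForm n F q (x i) (x j) = 0) :
    q * Nat.card {v // Cfsg.hermForm n F q v v = 0 ∧ ∀ i, Cfsg.hermForm n F q v (x i) = 0} +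
      ((q ^ 2) ^ k - 1) * (q ^ 2) ^ (n - k) =
      q * Nat.card {v : Fin n → F // Cfsg.hermForm n F q v v = 0} := by
  classical
  let f : {v : Fin n → F // Cfsg.hermForm n F q v v = 0} → (Fin k → F) := fun v => hermL q x v.1
  have h1 : Nat.card {v : Fin n → F // Cfsg.hermForm n F q v v = 0} =
      ∑ c : Fin k → F, Nat.card {v // f v = c} := by
    rw [← Nat.card_congr (Equiv.sigmaFiberEquiv f), Nat.card_sigma]
  have h2 : ∀ c : Fin k → F, Nat.card {v // f v = c} =
      Nat.card {v // Cfsg.hermForm n F q v v = 0 ∧ hermL q x v = c} := fun c =>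
    Nat.card_congr
      { toFun := fun v => ⟨v.1.1, v.1.2, v.2⟩
        invFun := fun v => ⟨⟨v.1, v.2.1⟩, v.2.2⟩
        left_inv := fun v => rfl
        right_inv := fun v => rfl }
  have h3 : Nat.card {v // Cfsg.hermForm n F q v v = 0 ∧ hermL q x v = 0} =
      Nat.card {v // Cfsg.hermForm n F q v v = 0 ∧ ∀ i, Cfsg.hermForm n F q v (x i) = 0} :=
    Nat.card_congr (Equiv.subtypeEquivRight fun v => by
      rw [funext_iff]; rfl)
  rw [h1, Finset.mul_sum, ← Finset.add_sum_erase _ _ (Finset.mem_univ (0 : Fin k → F)), h2, h3]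
  congr 1
  rw [Finset.sum_congr rfl (fun c hc => by
    rw [h2, card_isotropic_fiber hF x hx hiso c (Finset.ne_of_mem_erase hc)]), Finset.sum_const,
    Finset.card_erase_of_mem (Finset.mem_univ _), Finset.card_univ, Fintype.card_fun,
    Fintype.card_fin, hF, smul_eq_mul]

/-- closed form for the number of isotropic vectors, in `ℤ` -/
theorem card_herm_zero_mul (hF : Fintype.card F = q ^ 2) (m : ℕ) :
    (q : ℤ) * (Nat.card {v : Fin m → F // Cfsg.hermForm m F q v v = 0} : ℤ) =
      (q : ℤ) ^ (2 * m) + (-1) ^ m * ((q : ℤ) ^ (m + 1) - (q : ℤ) ^ m) := by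
  induction m with
  | zero =>
    have : Nat.card {v : Fin 0 → F // Cfsg.hermForm 0 F q v v = 0} = 1 := by
      simp [Cfsg.hermForm]
    rw [this]; simp
  | succ m ih =>
    have h1 := card_herm_succ hF m 0 (zero_pow (q_ne_zero hF))
    have h2 : ((Nat.card {v : Fin (m + 1) → F // Cfsg.hermForm (m + 1) F q v v = 0} : ℕ) : ℤ) +
        (q : ℤ) * (Nat.card {v : Fin m → F // Cfsg.hermForm m F q v v = 0} : ℤ) =
        ((q : ℤ) + 1) * (q : ℤ) ^ (2 * m) := by exact_mod_cast h1
    rw [ih] at h2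
    have h3 : ((Nat.card {v : Fin (m + 1) → F // Cfsg.hermForm (m + 1) F q v v = 0} : ℕ) : ℤ) =
        ((q : ℤ) + 1) * (q : ℤ) ^ (2 * m) -
          ((q : ℤ) ^ (2 * m) + (-1) ^ m * ((q : ℤ) ^ (m + 1) - (q : ℤ) ^ m)) := by
      linear_combination h2
    rw [h3]
    ring

/-- number of isotropic vectors perpendicular to an isotropic frame, closed form -/
theorem card_isotropic_perp' (hF : Fintype.card F = q ^ 2) {k : ℕ} (hk : 2 * k ≤ n)
    (x : Fin k → Fin n → F)
    (hx : LinearIndependent F x) (hiso : ∀ i j, Cfsg.hermForm n F q (x i) (x j) = 0) :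
    Nat.card {v // Cfsg.hermForm n F q v v = 0 ∧ ∀ i, Cfsg.hermForm n F q v (x i) = 0} =
      (q ^ 2) ^ k * Nat.card {v : Fin (n - 2 * k) → F // Cfsg.hermForm (n - 2 * k) F q v v = 0} := by
  have hq := q_ge_two hF
  have h1 := card_isotropic_perp hF x hx hiso
  have h2 := card_herm_zero_mul hF n
  have h3 := card_herm_zero_mul hF (n - 2 * k)
  obtain ⟨m, rfl⟩ : ∃ m, n = m + 2 * k := ⟨n - 2 * k, by omega⟩
  rw [Nat.add_sub_cancel] at h3 ⊢
  have h4 : m + 2 * k - k = m + k := by omega
  rw [h4] at h1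
  have h5 : 1 ≤ (q ^ 2) ^ k := Nat.one_le_pow _ _ (by positivity)
  have h6 : (q : ℤ) * (Nat.card {v // Cfsg.hermForm (m + 2 * k) F q v v = 0 ∧
      ∀ i, Cfsg.hermForm (m + 2 * k) F q v (x i) = 0} : ℤ) +
      (((q : ℤ) ^ 2) ^ k - 1) * ((q : ℤ) ^ 2) ^ (m + k) =
      (q : ℤ) * (Nat.card {v : Fin (m + 2 * k) → F // Cfsg.hermForm (m + 2 * k) F q v v = 0} : ℤ) := by
    have := congrArg (Nat.cast : ℕ → ℤ) h1
    push_cast [Nat.cast_sub h5] at this
    exact this
  rw [h2] at h6
  have h7 : (q : ℤ) * (Nat.card {v // Cfsg.hermForm (m + 2 * k) F q v v = 0 ∧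
      ∀ i, Cfsg.hermForm (m + 2 * k) F q v (x i) = 0} : ℤ) = (q : ℤ) * (((q : ℤ) ^ 2) ^ k *
      (Nat.card {v : Fin m → F // Cfsg.hermForm m F q v v = 0} : ℤ)) := by
    have h8 : (q : ℤ) * (((q : ℤ) ^ 2) ^ k *
      (Nat.card {v : Fin m → F // Cfsg.hermForm m F q v v = 0} : ℤ)) = ((q : ℤ) ^ 2) ^ k *
      ((q : ℤ) * (Nat.card {v : Fin m → F // Cfsg.hermForm m F q v v = 0} : ℤ)) := by ring
    rw [h8, h3]
    have h9 : ((-1 : ℤ)) ^ (m + 2 * k) = (-1) ^ m := by
      rw [pow_add, pow_mul, neg_one_sq, one_pow, mul_one]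
    rw [h9] at h6
    linear_combination h6
  have h10 := mul_left_cancel₀ (by positivity : (q : ℤ) ≠ 0) h7
  exact_mod_cast h10

omit [Fintype F] in
theorem card_and_not {α : Type*} [Finite α] (P R : α → Prop) (h : ∀ a, R a → P a) :
    Nat.card {a // P a ∧ ¬ R a} + Nat.card {a // R a} = Nat.card {a // P a} := by
  classical
  have e : {a // P a} ≃ {a // P a ∧ ¬ R a} ⊕ {a // R a} :=
    { toFun := fun x => if hx : R x.1 then Sum.inr ⟨x.1, hx⟩ else Sum.inl ⟨x.1, x.2, hx⟩
      invFun := fun y => Sum.elim (fun a => ⟨a.1, a.2.1⟩) (fun b => ⟨b.1, h _ b.2⟩) y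
      left_inv := fun x => by
        by_cases hx : R x.1 <;> simp [hx]
      right_inv := fun y => by
        rcases y with a | b
        · simp [a.2.2]
        · simp [b.2] }
  rw [Nat.card_congr e, Nat.card_sum]

/-- the form vanishes on the span iff it vanishes on the generators -/
theorem herm_span_isotropic (hF : Fintype.card F = q ^ 2) {ι : Type*} (s : ι → Fin n → F) :
    (∀ i j, Cfsg.hermForm n F q (s i) (s j) = 0) ↔
      ∀ u ∈ Submodule.span F (Set.range s), ∀ v ∈ Submodule.span F (Set.range s),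
        Cfsg.hermForm n F q u v = 0 := by
  constructor
  · intro h
    have h1 : ∀ j, Submodule.span F (Set.range s) ≤ LinearMap.ker (hermLin q (s j)) := by
      intro j
      rw [Submodule.span_le]
      rintro _ ⟨i, rfl⟩
      exact h i j
    intro u hu v hv
    have h2 : Submodule.span F (Set.range s) ≤ LinearMap.ker (hermLin q u) := by
      rw [Submodule.span_le]
      rintro _ ⟨j, rfl⟩
      exact hermForm_eq_zero_symm hF _ _ (h1 j hu)
    exact hermForm_eq_zero_symm hF _ _ (h2 hv)
  · intro h i j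
    exact h _ (Submodule.subset_span ⟨i, rfl⟩) _ (Submodule.subset_span ⟨j, rfl⟩)

/-- totally isotropic frames of the Hermitian space -/
abbrev XH (F : Type*) [Field F] (q n k : ℕ) : Type _ :=
  {s : Fin k → (Fin n → F) // LinearIndependent F s ∧
    ∀ i j, Cfsg.hermForm n F q (s i) (s j) = 0}

theorem card_XH_succ (hF : Fintype.card F = q ^ 2) (k : ℕ) (hk : 2 * k ≤ n) :
    Nat.card (XH F q n (k + 1)) =
      Nat.card (XH F q n k) * ((q ^ 2) ^ k *
        (Nat.card {v : Fin (n - 2 * k) → F // Cfsg.hermForm (n - 2 * k) F q v v = 0} - 1)) := by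
  classical
  let f : XH F q n (k + 1) → XH F q n k := fun t =>
    ⟨Fin.tail t.1, (linearIndependent_finSucc.1 t.2.1).1, fun i j => t.2.2 i.succ j.succ⟩
  refine card_eq_mul_of_fibers f _ fun s => ?_
  set U := Submodule.span F (Set.range s.1) with hU
  have h1 := card_and_not
    (fun v => Cfsg.hermForm n F q v v = 0 ∧ ∀ i, Cfsg.hermForm n F q v (s.1 i) = 0)
    (fun v => v ∈ U) (fun v hv => ⟨(herm_span_isotropic hF s.1).1 s.2.2 v hv v hv,
      fun i => (herm_span_isotropic hF s.1).1 s.2.2 v hv _ (Submodule.subset_span ⟨i, rfl⟩)⟩)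
  rw [card_isotropic_perp' hF hk s.1 s.2.1 s.2.2] at h1
  have h2 : Nat.card {v // v ∈ U} = (q ^ 2) ^ k := by
    change Nat.card U = _
    rw [Nat.card_eq_fintype_card, Module.card_eq_pow_finrank (K := F), finrank_span_eq_card s.2.1,
      Fintype.card_fin, hF]
  rw [h2] at h1
  have h3 : (q ^ 2) ^ k *
        (Nat.card {v : Fin (n - 2 * k) → F // Cfsg.hermForm (n - 2 * k) F q v v = 0} - 1) =
      Nat.card {v // (Cfsg.hermForm n F q v v = 0 ∧ ∀ i, Cfsg.hermForm n F q v (s.1 i) = 0) ∧
        v ∉ U} := by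
    rw [Nat.mul_sub, mul_one, ← h1, Nat.add_sub_cancel]
  rw [h3]
  refine Nat.card_congr
    { toFun := fun t => ⟨t.1.1 0, ⟨t.1.2.2 0 0, ?_⟩, ?_⟩
      invFun := fun v => ⟨⟨Fin.cons v.1 s.1, ?_, ?_⟩, ?_⟩
      left_inv := fun t => ?_
      right_inv := fun v => rfl }
  · intro i
    have := congrArg Subtype.val t.2
    change Fin.tail t.1.1 = s.1 at this
    rw [← this]
    exact t.1.2.2 0 i.succ
  · have := congrArg Subtype.val t.2
    change Fin.tail t.1.1 = s.1 at this
    rw [hU, ← this]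
    exact (linearIndependent_finSucc.1 t.1.2.1).2
  · exact linearIndependent_finCons.2 ⟨s.2.1, v.2.2⟩
  · have hv := v.2.1.2
    intro i j
    refine Fin.cases ?_ (fun i => ?_) i <;> refine Fin.cases ?_ (fun j => ?_) j
    · simpa using v.2.1.1
    · simp only [Fin.cons_zero, Fin.cons_succ]
      exact hv j
    · simp only [Fin.cons_zero, Fin.cons_succ]
      exact hermForm_eq_zero_symm hF _ _ (hv i)
    · simp only [Fin.cons_succ]
      exact s.2.2 i j
  · apply Subtype.ext
    change Fin.tail (Fin.cons v.1 s.1 : Fin (k + 1) → Fin n → F) = s.1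
    exact Fin.tail_cons _ _
  · apply Subtype.ext
    apply Subtype.ext
    have := congrArg Subtype.val t.2
    change Fin.tail t.1.1 = s.1 at this
    change Fin.cons (t.1.1 0) s.1 = t.1.1
    rw [← this, Fin.cons_self_tail]

omit [Fintype F] in
theorem card_XH_zero : Nat.card (XH F q n 0) = 1 := by
  haveI : Unique (XH F q n 0) :=
    { default := ⟨fun i => i.elim0, linearIndependent_empty_type, fun i => i.elim0⟩
      uniq := fun a => Subtype.ext (Subsingleton.elim _ _) }
  simp

/-- frames versus subspaces -/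
theorem card_XH_eq (hF : Fintype.card F = q ^ 2) (k : ℕ) :
    Nat.card (XH F q n k) =
      Nat.card {W : Submodule F (Fin n → F) // finrank F W = k ∧
        ∀ u ∈ W, ∀ v ∈ W, Cfsg.hermForm n F q u v = 0} *
        ∏ i : Fin k, ((q ^ 2) ^ k - (q ^ 2) ^ (i : ℕ)) := by
  rw [← hF, ← card_frames k (fun W : Submodule F (Fin n → F) =>
    ∀ u ∈ W, ∀ v ∈ W, Cfsg.hermForm n F q u v = 0)]
  exact Nat.card_congr (Equiv.subtypeEquivRight fun s => by rw [herm_span_isotropic hF])

end Cfsg.Agent.Lib.Helper14
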