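import Mathlib
import Cfsg.Agent.Lib.Helper14.HermFrames
import Cfsg.Agent.Lib.Helper14.SUOrder
import Cfsg.Agent.Lib.Helper5.Stab

set_option autoImplicit false

namespace Cfsg.Agent.Lib.Helper14

open Module Matrix Cfsg.Agent.Lib.Helper5

variable {F : Type*} [Field F] [Fintype F] {q n : ℕ}

/-- Witt's lemma for the standard Hermitian space, in matrix form -/
theorem exists_gu_extending (hF : Fintype.card F = q ^ 2) (X Y : Submodule F (Fin n → F))
    (φ : X ≃ₗ[F] Y)
    (hφ : ∀ x x' : X, Cfsg.hermForm n F q (φ x) (φ x') = Cfsg.hermForm n F q x x') :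
    ∃ g : Cfsg.GU n F q, ∀ x : X, g.1.1 *ᵥ (x : Fin n → F) = φ x := by
  obtain ⟨σ, hσ⟩ := exists_frob hF
  let B : (Fin n → F) →ₛₗ[σ] (Fin n → F) →ₗ[F] F :=
    LinearMap.mk₂'ₛₗ σ (RingHom.id F) (fun a b => Cfsg.hermForm n F q b a)
      (fun a a' b => hermForm_add_right hF b a a')
      (fun c a b => by rw [hermForm_smul_right, hσ]; rfl)
      (fun a b b' => hermForm_add_left b b' a)
      (fun c a b => by rw [hermForm_smul_left]; rfl)
  have hBdef : ∀ a b, B a b = Cfsg.hermForm n F q b a := fun a b => rfl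
  have hS : B.IsSymm := ⟨fun a b => by rw [hBdef, hBdef, hσ, hermForm_swap hF]⟩
  have hB : B.Nondegenerate := by
    constructor
    · intro x hx
      ext i
      have := hx (Pi.single i 1)
      rw [hBdef, hermForm_single_left] at this
      exact (pow_eq_zero_iff (q_ne_zero hF)).1 this
    · intro y hy
      ext i
      have := hy (Pi.single i 1)
      rw [hBdef, hermForm_single_right (q_ne_zero hF)] at this
      exact this
  obtain ⟨g, hg1, hg2⟩ := Cfsg.Agent.S0751.result σ (frob_ne_id hF σ hσ)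
    (fun a => by rw [hσ, hσ, pow_q_q hF]) B hS hB _ _ φ (fun x x' => hφ x' x)
  refine ⟨guMk hF (LinearMap.toMatrix' (g : (Fin n → F) →ₗ[F] (Fin n → F))) ?_, ?_⟩
  · intro a b
    rw [← Matrix.toLin'_apply, ← Matrix.toLin'_apply, Matrix.toLin'_toMatrix']
    exact hg1 b a
  · intro x
    change LinearMap.toMatrix' (g : (Fin n → F) →ₗ[F] (Fin n → F)) *ᵥ (x : Fin n → F) = _
    rw [← Matrix.toLin'_apply, Matrix.toLin'_toMatrix']
    exact hg2 x

/-- `GU` is transitive on totally isotropic frames. -/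
theorem gu_transitive_XH (hF : Fintype.card F = q ^ 2) {k : ℕ} (s t : XH F q n k) :
    ∃ g : Cfsg.GU n F q, ∀ i, g.1.1 *ᵥ s.1 i = t.1 i := by
  let b := Basis.span s.2.1
  let b' := Basis.span t.2.1
  let φ := b.equiv b' (Equiv.refl _)
  obtain ⟨g, hg⟩ := exists_gu_extending hF _ _ φ (by
      intro x x'
      rw [(herm_span_isotropic hF t.1).1 t.2.2 _ (φ x).2 _ (φ x').2,
        (herm_span_isotropic hF s.1).1 s.2.2 _ x.2 _ x'.2])
  refine ⟨g, fun i => ?_⟩
  have h1 := hg (b i)
  have h2 : (b i : Fin n → F) = s.1 i := congrArg Subtype.val (Basis.span_apply s.2.1 i)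
  have h3 : φ (b i) = b' i := by simp [φ]
  have h4 : (b' i : Fin n → F) = t.1 i := congrArg Subtype.val (Basis.span_apply t.2.1 i)
  rw [h2, h3, h4] at h1
  exact h1

omit [Fintype F] in
/-- the action on families of vectors -/
@[reducible] def guFunAction (F : Type*) [Field F] (q n k : ℕ) :
    MulAction (Cfsg.GU n F q) (Fin k → (Fin n → F)) where
  smul g x := fun i => g.1.1 *ᵥ x i
  one_smul x := funext fun i => Matrix.one_mulVec (x i)
  mul_smul g h x := funext fun i => (Matrix.mulVec_mulVec (x i) g.1.1 h.1.1).symm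

omit [Fintype F] in
theorem gu_mulVec_injective (g : Cfsg.GU n F q) :
    Function.Injective (fun v : Fin n → F => g.1.1 *ᵥ v) := by
  intro u v h
  have h' : g.1.1 *ᵥ u = g.1.1 *ᵥ v := h
  have h2 : ∀ x, (g.1⁻¹).1 *ᵥ (g.1.1 *ᵥ x) = x := by
    intro x
    rw [Matrix.mulVec_mulVec, ← Units.val_mul, inv_mul_cancel, Units.val_one, Matrix.one_mulVec]
  rw [← h2 u, h', h2]

omit [Fintype F] in
theorem gu_linearIndependent {k : ℕ} (g : Cfsg.GU n F q) (s : Fin k → Fin n → F)
    (hs : LinearIndependent F s) : LinearIndependent F (fun i => g.1.1 *ᵥ s i) := by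
  have := hs.map' (Matrix.mulVecLin g.1.1) (LinearMap.ker_eq_bot.2 (gu_mulVec_injective g))
  exact this

theorem card_gu_succ_succ (hF : Fintype.card F = q ^ 2) (r : ℕ) :
    Nat.card (Cfsg.GU (r + 2) F q) = q ^ (2 * r + 1) *
      (Nat.card {v : Fin (r + 2) → F // Cfsg.hermForm (r + 2) F q v v = 0} - 1) *
        Nat.card (Cfsg.GU r F q) := by
  rw [card_gu_succ hF (r + 1), card_gu_succ hF r, card_herm_one hF, card_herm_one hF,
    card_herm_zero hF]
  have e4 : q ^ (2 * r + 1) = q ^ (r + 1) * q ^ r := by rw [← pow_add]; congr 1; ring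
  have e3 : r + 2 - 1 = r + 1 := rfl
  simp only [Nat.add_sub_cancel, e3]
  rw [e4]
  rcases Nat.even_or_odd r with he | ho
  · have h1 : ¬ Even (r + 1) := by rw [Nat.not_even_iff_odd]; exact he.add_one
    have h2 : Even (r + 1 + 1) := by
      have := he.add_one.add_one; exact this
    have h3 : Even (r + 2) := h2
    rw [if_pos h2, if_neg h1, if_pos h3]
    ring
  · have h1 : Even (r + 1) := ho.add_one
    have h2 : ¬ Even (r + 1 + 1) := by rw [Nat.not_even_iff_odd]; exact h1.add_one
    have h3 : ¬ Even (r + 2) := h2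
    rw [if_neg h2, if_pos h1, if_neg h3]
    ring

/-- order of `GU` through the number of totally isotropic frames -/
theorem card_gu_eq_XH (hF : Fintype.card F = q ^ 2) (k : ℕ) (hk : 2 * k ≤ n) :
    Nat.card (Cfsg.GU n F q) =
      Nat.card (XH F q n k) * (q ^ (k * (2 * n - 3 * k)) * Nat.card (Cfsg.GU (n - 2 * k) F q)) := by
  induction k with
  | zero => rw [card_XH_zero]; simp
  | succ k ih =>
    rw [ih (by omega), card_XH_succ hF k (by omega)]
    obtain ⟨r, hr⟩ : ∃ r, n - 2 * k = r + 2 := ⟨n - 2 * k - 2, by omega⟩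
    have hr' : n - 2 * (k + 1) = r := by omega
    rw [hr, hr', card_gu_succ_succ hF r]
    have e1 : 2 * n - 3 * k = 2 * r + 4 + k := by omega
    have e2 : 2 * n - 3 * (k + 1) = 2 * r + k + 1 := by omega
    rw [e1, e2]
    have e3 : q ^ (k * (2 * r + 4 + k)) * q ^ (2 * r + 1) =
        (q ^ 2) ^ k * q ^ ((k + 1) * (2 * r + k + 1)) := by
      rw [← pow_mul, ← pow_add, ← pow_add]
      congr 1
      ring
    generalize Nat.card {v : Fin (r + 2) → F // Cfsg.hermForm (r + 2) F q v v = 0} - 1 = z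
    calc Nat.card (XH F q n k) * (q ^ (k * (2 * r + 4 + k)) *
          (q ^ (2 * r + 1) * z * Nat.card (Cfsg.GU r F q)))
        = Nat.card (XH F q n k) * z * (q ^ (k * (2 * r + 4 + k)) * q ^ (2 * r + 1)) *
            Nat.card (Cfsg.GU r F q) := by ring
      _ = _ := by rw [e3]; ring

/-- order of the pointwise stabiliser of a totally isotropic frame -/
theorem card_gu_fix_frame (hF : Fintype.card F = q ^ 2) (k : ℕ) (hk : 2 * k ≤ n)
    (s : XH F q n k) :
    Nat.card {g : Cfsg.GU n F q // ∀ i, g.1.1 *ᵥ s.1 i = s.1 i} =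
      q ^ (k * (2 * n - 3 * k)) * Nat.card (Cfsg.GU (n - 2 * k) F q) := by
  letI := guFunAction F q n k
  have h1 := card_eq_card_mul_of_transitive (G := Cfsg.GU n F q) s.1
    (fun x => LinearIndependent F x ∧ ∀ i j, Cfsg.hermForm n F q (x i) (x j) = 0) (fun x => by
      constructor
      · intro hx
        obtain ⟨g, hg⟩ := gu_transitive_XH hF s ⟨x, hx⟩
        exact ⟨g, funext hg⟩
      · rintro ⟨g, rfl⟩
        refine ⟨gu_linearIndependent g s.1 s.2.1, fun i j => ?_⟩
        change Cfsg.hermForm n F q (g.1.1 *ᵥ s.1 i) (g.1.1 *ᵥ s.1 j) = 0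
        rw [gu_preserves]
        exact s.2.2 i j)
  rw [card_gu_eq_XH hF k hk] at h1
  have hpos : 0 < Nat.card (XH F q n k) := by
    haveI : Nonempty (XH F q n k) := ⟨s⟩
    exact Nat.card_pos
  have h2 := Nat.eq_of_mul_eq_mul_left hpos h1
  rw [h2]
  exact Nat.card_congr (Equiv.subtypeEquivRight fun g => funext_iff.symm)

/-- the stabiliser of a subspace in `GU` -/
def guStab (q : ℕ) (W : Submodule F (Fin n → F)) : Subgroup (Cfsg.GU n F q) :=
  Cfsg.stabilizing ((Units.coeHom (Matrix (Fin n) (Fin n) F)).comp (Cfsg.GU n F q).subtype)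
    (W : Set (Fin n → F))

omit [Fintype F] in
theorem mem_guStab (W : Submodule F (Fin n → F)) (g : Cfsg.GU n F q) :
    g ∈ guStab q W ↔ ∀ v ∈ W, g.1.1 *ᵥ v ∈ W :=
  mem_stabilizing_submodule _ W g

/-- order of the stabiliser in `GU` of a totally isotropic subspace -/
theorem card_gu_stabilizer_isotropic (hF : Fintype.card F = q ^ 2) (k : ℕ) (hk : 2 * k ≤ n)
    (W : Submodule F (Fin n → F))
    (hWk : finrank F W = k) (hW : ∀ u ∈ W, ∀ v ∈ W, Cfsg.hermForm n F q u v = 0) :
    Nat.card (guStab q W) =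
      (∏ i : Fin k, ((q ^ 2) ^ k - (q ^ 2) ^ (i : ℕ))) *
      (q ^ (k * (2 * n - 3 * k)) * Nat.card (Cfsg.GU (n - 2 * k) F q)) := by
  classical
  let b := Module.finBasisOfFinrankEq F W hWk
  have hLI : LinearIndependent F (fun i => (b i : Fin n → F)) :=
    b.linearIndependent.map' W.subtype (Submodule.ker_subtype _)
  have hle0 : Submodule.span F (Set.range fun i => (b i : Fin n → F)) ≤ W := by
    rw [Submodule.span_le]
    rintro _ ⟨i, rfl⟩
    exact (b i).2
  have hspan : Submodule.span F (Set.range fun i => (b i : Fin n → F)) = W :=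
    Submodule.eq_of_le_of_finrank_eq hle0 (by
      rw [finrank_span_eq_card hLI, Fintype.card_fin, hWk])
  let s : XH F q n k := ⟨fun i => (b i : Fin n → F), hLI, fun i j => hW _ (b i).2 _ (b j).2⟩
  letI := guFunAction F q n k
  set S := guStab q W with hS
  have hmap : ∀ (g : Cfsg.GU n F q) (x : Fin k → Fin n → F),
      Submodule.span F (Set.range x) = W → (∀ i, g.1.1 *ᵥ s.1 i = x i) → g ∈ S := by
    intro g x hx hg
    rw [hS, mem_guStab]
    intro v hv
    rw [← hspan] at hv
    have h1 : Submodule.span F (Set.range fun i => (b i : Fin n → F)) ≤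
        W.comap (Matrix.mulVecLin g.1.1) := by
      rw [Submodule.span_le]
      rintro _ ⟨i, rfl⟩
      change g.1.1 *ᵥ (b i : Fin n → F) ∈ W
      have := hg i
      change g.1.1 *ᵥ (b i : Fin n → F) = x i at this
      rw [this]
      exact hx ▸ Submodule.subset_span ⟨i, rfl⟩
    exact h1 hv
  have h1 := card_eq_card_mul_of_transitive (G := S) s.1
    (fun x => LinearIndependent F x ∧ Submodule.span F (Set.range x) = W) (fun x => by
      constructor
      · rintro ⟨hx1, hx2⟩
        have hxW : ∀ i, x i ∈ W := fun i => hx2 ▸ Submodule.subset_span ⟨i, rfl⟩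
        obtain ⟨g, hg⟩ := gu_transitive_XH hF s ⟨x, hx1, fun i j => hW _ (hxW i) _ (hxW j)⟩
        exact ⟨⟨g, hmap g x hx2 hg⟩, funext hg⟩
      · rintro ⟨g, rfl⟩
        have hLI' := gu_linearIndependent g.1 s.1 s.2.1
        refine ⟨hLI', ?_⟩
        apply Submodule.eq_of_le_of_finrank_eq
        · rw [Submodule.span_le]
          rintro _ ⟨i, rfl⟩
          exact ((mem_guStab W g.1).1 g.2) _ (b i).2
        · have := finrank_span_eq_card hLI'
          rw [Fintype.card_fin] at this
          rw [hWk]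
          exact this)
  have h2 := card_frames (K := F) (V := Fin n → F) k (fun W' => W' = W)
  have h3 : Nat.card {W' : Submodule F (Fin n → F) // finrank F W' = k ∧ W' = W} = 1 := by
    haveI : Unique {W' : Submodule F (Fin n → F) // finrank F W' = k ∧ W' = W} :=
      { default := ⟨W, hWk, rfl⟩
        uniq := fun a => Subtype.ext a.2.2 }
    exact Nat.card_unique
  rw [h3, one_mul, hF] at h2
  rw [h1, h2, ← card_gu_fix_frame hF k hk s]
  congr 1
  refine Nat.card_congr
    { toFun := fun g => ⟨g.1.1, fun i => congrFun g.2 i⟩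
      invFun := fun g => ⟨⟨g.1, hmap g.1 s.1 hspan g.2⟩, funext g.2⟩
      left_inv := fun g => rfl
      right_inv := fun g => rfl }

/-- Hilbert 90 for the norm-one group -/
theorem exists_hilbert90 (hF : Fintype.card F = q ^ 2) (l : F) (hl : l ^ (q + 1) = 1) :
    ∃ μ : F, μ ≠ 0 ∧ μ = l * μ ^ q := by
  have hlq : l ^ q * l = 1 := by rw [← pow_succ]; exact hl
  have hex : ∃ θ : F, θ + l * θ ^ q ≠ 0 := by
    by_contra h
    push Not at h
    obtain ⟨σ, hσ⟩ := exists_frob hF
    apply frob_ne_id hF σ hσ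
    have h1 : 1 + l = 0 := by simpa using h 1
    ext x
    rw [hσ, RingHom.id_apply]
    have h2 := h x
    linear_combination (-1 : F) * h2 + x ^ q * h1
  obtain ⟨θ, hθ⟩ := hex
  refine ⟨θ + l * θ ^ q, hθ, ?_⟩
  rw [add_pow_q hF, mul_pow, pow_q_q hF]
  linear_combination (-θ) * hlq

omit [Fintype F] in
/-- rank one perturbation of the identity -/
def r1 (q : ℕ) (c : F) (w y : Fin n → F) : Matrix (Fin n) (Fin n) F :=
  1 + vecMulVec (c • w) (fun j => y j ^ q)

omit [Fintype F] in
theorem r1_mulVec (c : F) (w y x : Fin n → F) :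
    r1 q c w y *ᵥ x = x + (c * Cfsg.hermForm n F q x y) • w := by
  rw [r1, Matrix.add_mulVec, Matrix.one_mulVec, vecMulVec_mulVec]
  congr 1
  ext i
  simp only [Pi.smul_apply, MulOpposite.smul_eq_mul_unop, MulOpposite.unop_op, smul_eq_mul,
    dotProduct, Cfsg.hermForm]
  rw [Finset.sum_congr rfl (fun j _ => mul_comm (y j ^ q) (x j))]
  ring

omit [Fintype F] in
theorem r1_det (c : F) (w y : Fin n → F) :
    (r1 q c w y).det = 1 + c * Cfsg.hermForm n F q w y := by
  rw [r1, Matrix.vecMulVec_eq Unit, det_one_add_replicateCol_mul_replicateRow]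
  congr 1
  simp only [dotProduct, Pi.smul_apply, smul_eq_mul, Cfsg.hermForm, Finset.mul_sum]
  exact Finset.sum_congr rfl fun j _ => by ring

/-- hyperbolic rotations preserve the form -/
theorem hyp_preserves (hF : Fintype.card F = q ^ 2) (w y : Fin n → F)
    (hw : Cfsg.hermForm n F q w w = 0) (hy : Cfsg.hermForm n F q y y = 0)
    (hyw : Cfsg.hermForm n F q y w = 1) (a b : F) (hab : (1 + a ^ q) * (1 + b) = 1)
    (x x' : Fin n → F) :
    Cfsg.hermForm n F q ((r1 q a w y * r1 q b y w) *ᵥ x) ((r1 q a w y * r1 q b y w) *ᵥ x') =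
      Cfsg.hermForm n F q x x' := by
  have hwy : Cfsg.hermForm n F q w y = 1 := by rw [← hermForm_swap hF, hyw, one_pow]
  have hab' : (1 + a) * (1 + b ^ q) = 1 := by
    have := congrArg (fun z => z ^ q) hab
    simp only [mul_pow, add_pow_q hF, one_pow, pow_q_q hF] at this
    exact this
  have hT : ∀ z, (r1 q a w y * r1 q b y w) *ᵥ z =
      z + (b * Cfsg.hermForm n F q z w) • y + (a * Cfsg.hermForm n F q z y) • w := by
    intro z
    rw [← Matrix.mulVec_mulVec, r1_mulVec, r1_mulVec, hermForm_add_left, hermForm_smul_left, hy,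
      mul_zero, add_zero]
  rw [hT, hT]
  simp only [hermForm_add_left, hermForm_add_right hF, hermForm_smul_left, hermForm_smul_right,
    hw, hy, hyw, hwy, mul_pow]
  rw [← hermForm_swap hF x' w, ← hermForm_swap hF x' y]
  linear_combination (Cfsg.hermForm n F q x w * Cfsg.hermForm n F q x' y ^ q) * hab +
    (Cfsg.hermForm n F q x y * Cfsg.hermForm n F q x' w ^ q) * hab'

/-- the determinant is onto the norm one group on the stabiliser of a totally isotropic subspace -/
theorem exists_gu_stab_det (hF : Fintype.card F = q ^ 2) (hn : 1 ≤ n)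
    (W : Submodule F (Fin n → F)) (hW : ∀ u ∈ W, ∀ v ∈ W, Cfsg.hermForm n F q u v = 0)
    (l : F) (hl : l ^ (q + 1) = 1) :
    ∃ g : Cfsg.GU n F q, g ∈ guStab q W ∧ g.1.1.det = l := by
  classical
  by_cases hbot : W = ⊥
  · subst hbot
    refine ⟨guMk hF (Matrix.diagonal (Function.update 1 (⟨0, hn⟩ : Fin n) l))
      (diagonal_preserves _ (fun i => ?_)), ?_, ?_⟩
    · by_cases hi : i = (⟨0, hn⟩ : Fin n)
      · subst hi; simpa using hl
      · simp [hi]
    · rw [mem_guStab]
      intro v hv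
      rw [Submodule.mem_bot] at hv
      rw [hv, Matrix.mulVec_zero]
      exact Submodule.zero_mem _
    · change (Matrix.diagonal (Function.update 1 (⟨0, hn⟩ : Fin n) l)).det = l
      rw [Matrix.det_diagonal, Finset.prod_update_of_mem (Finset.mem_univ _)]
      simp
  · obtain ⟨w, hwW, hw0⟩ := Submodule.exists_mem_ne_zero_of_ne_bot hbot
    have hww := hW w hwW w hwW
    obtain ⟨v, hv⟩ : ∃ v, Cfsg.hermForm n F q v w ≠ 0 := by
      by_contra h
      push Not at h
      exact hw0 (eq_zero_of_hermForm_right hF w h)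
    obtain ⟨y0, hy0w⟩ : ∃ y0, Cfsg.hermForm n F q y0 w = 1 :=
      ⟨(Cfsg.hermForm n F q v w)⁻¹ • v, by rw [hermForm_smul_left, inv_mul_cancel₀ hv]⟩
    obtain ⟨t, ht⟩ := exists_trace_eq hF 1 one_ne_zero (-Cfsg.hermForm n F q y0 y0)
      (by rw [neg_pow_q hF, hermForm_self_pow hF])
    set y := y0 + t • w with hy
    have hyw : Cfsg.hermForm n F q y w = 1 := by
      rw [hy, hermForm_add_left, hy0w, hermForm_smul_left, hww]; ring
    have hyy : Cfsg.hermForm n F q y y = 0 := by
      rw [hy, hermForm_add_smul_self hF _ _ _ hww, hy0w]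
      linear_combination ht
    have hwy : Cfsg.hermForm n F q w y = 1 := by rw [← hermForm_swap hF, hyw, one_pow]
    obtain ⟨μ, hμ0, hμ⟩ := exists_hilbert90 hF l hl
    have hμq : μ ^ q ≠ 0 := pow_ne_zero _ hμ0
    have hab : (1 + (μ - 1) ^ q) * (1 + ((μ ^ q)⁻¹ - 1)) = 1 := by
      rw [sub_pow_q hF, one_pow]
      field_simp
      ring
    refine ⟨guMk hF (r1 q (μ - 1) w y * r1 q ((μ ^ q)⁻¹ - 1) y w)
      (hyp_preserves hF w y hww hyy hyw _ _ hab), ?_, ?_⟩
    · rw [mem_guStab]
      intro x hx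
      change (r1 q (μ - 1) w y * r1 q ((μ ^ q)⁻¹ - 1) y w) *ᵥ x ∈ W
      rw [← Matrix.mulVec_mulVec, r1_mulVec, r1_mulVec, hW x hx w hwW, mul_zero, zero_smul,
        add_zero]
      exact W.add_mem hx (W.smul_mem _ hwW)
    · change (r1 q (μ - 1) w y * r1 q ((μ ^ q)⁻¹ - 1) y w).det = l
      rw [Matrix.det_mul, r1_det, r1_det, hwy, hyw]
      field_simp
      linear_combination hμ

/-- determinant on the stabiliser -/
noncomputable def guStabDet (q : ℕ) (W : Submodule F (Fin n → F)) : guStab q W →* Fˣ :=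
  (guDet F q n).comp (guStab q W).subtype

theorem card_range_guStabDet (hF : Fintype.card F = q ^ 2) (hn : 1 ≤ n)
    (W : Submodule F (Fin n → F)) (hW : ∀ u ∈ W, ∀ v ∈ W, Cfsg.hermForm n F q u v = 0) :
    Nat.card (guStabDet q W).range = q + 1 := by
  classical
  rw [← card_units_norm_one hF]
  refine Nat.card_congr (Equiv.subtypeEquivRight fun x => ?_)
  constructor
  · rintro ⟨g, rfl⟩
    apply Units.ext
    have := det_pow_eq_one hF g.1.1.1 g.1.2
    simpa [guStabDet, guDet] using this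
  · intro hx
    have hx' : (x : F) ^ (q + 1) = 1 := by
      have := congrArg Units.val hx
      simpa using this
    obtain ⟨g, hg1, hg2⟩ := exists_gu_stab_det hF hn W hW x hx'
    exact ⟨⟨g, hg1⟩, Units.ext hg2⟩

omit [Fintype F] in
/-- the stabiliser in `SU` is the kernel of the determinant on the stabiliser in `GU` -/
noncomputable def suStabEquivKer (q : ℕ) (W : Submodule F (Fin n → F)) :
    ((Cfsg.stabilizing (Cfsg.slToMat n F) (W : Set (Fin n → F))).subgroupOf (Cfsg.SU n F q)) ≃
      (guStabDet q W).ker where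
  toFun s := ⟨⟨⟨Matrix.SpecialLinearGroup.toGL s.1.1, s.1.2⟩, s.2⟩, by
    rw [MonoidHom.mem_ker]
    exact Matrix.SpecialLinearGroup.coeToGL_det s.1.1⟩
  invFun g := ⟨⟨⟨g.1.1.1.1, by
    have := g.2
    rw [MonoidHom.mem_ker] at this
    exact congrArg Units.val this⟩, g.1.1.2⟩, g.1.2⟩
  left_inv s := rfl
  right_inv g := Subtype.ext (Subtype.ext (Subtype.ext (Units.ext rfl)))

/-- order of the stabiliser in `SU` of a totally isotropic subspace -/
theorem card_su_stabilizer_isotropic (hF : Fintype.card F = q ^ 2) (hn : 1 ≤ n) (k : ℕ)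
    (hk : 2 * k ≤ n) (W : Submodule F (Fin n → F))
    (hWk : finrank F W = k) (hW : ∀ u ∈ W, ∀ v ∈ W, Cfsg.hermForm n F q u v = 0) :
    (q + 1) * Nat.card ((Cfsg.stabilizing (Cfsg.slToMat n F) (W : Set (Fin n → F))).subgroupOf
        (Cfsg.SU n F q)) =
      (∏ i : Fin k, ((q ^ 2) ^ k - (q ^ 2) ^ (i : ℕ))) *
      (q ^ (k * (2 * n - 3 * k)) * Nat.card (Cfsg.GU (n - 2 * k) F q)) := by
  have h1 := Subgroup.card_mul_index (guStabDet q W).ker
  rw [Subgroup.index_ker, card_range_guStabDet hF hn W hW,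
    ← Nat.card_congr (suStabEquivKer q W), card_gu_stabilizer_isotropic hF k hk W hWk hW] at h1
  rw [← h1, mul_comm]

end Cfsg.Agent.Lib.Helper14
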