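import Mathlib

set_option autoImplicit false

namespace Cfsg.Agent.Lib.Helper14

/-- A finite field with `q` elements embeds in a finite field with `q ^ k` elements. -/
theorem exists_ringHom_of_card {F K : Type*} [Field F] [Fintype F] [Field K] [Fintype K] {q k : ℕ}
    (hF : Fintype.card F = q) (hK : Fintype.card K = q ^ k) (hk : k ≠ 0) : Nonempty (F →+* K) := by
  obtain ⟨p, hp⟩ := CharP.exists F
  obtain ⟨a, hpp, ha⟩ := FiniteField.card F p
  haveI : Fact p.Prime := ⟨hpp⟩
  obtain ⟨p', hp'⟩ := CharP.exists K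
  obtain ⟨b, hpp', hb⟩ := FiniteField.card K p'
  have hpeq : p' = p := by
    have h1 : p' ∣ q ^ k := by
      rw [← hK, hb]
      exact dvd_pow_self _ b.ne_zero
    have h2 : p' ∣ q := hpp'.dvd_of_dvd_pow h1
    rw [← hF, ha] at h2
    exact (Nat.prime_dvd_prime_iff_eq hpp' hpp).1 (hpp'.dvd_of_dvd_pow h2)
  subst hpeq
  letI := ZMod.algebra F p'
  letI := ZMod.algebra K p'
  have h1 : p' ^ Module.finrank (ZMod p') F = p' ^ (a : ℕ) := by
    rw [← ha, Module.card_eq_pow_finrank (K := ZMod p') (V := F), ZMod.card]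
  have h2 : p' ^ Module.finrank (ZMod p') K = p' ^ (b : ℕ) := by
    rw [← hb, Module.card_eq_pow_finrank (K := ZMod p') (V := K), ZMod.card]
  have h3 := Nat.pow_right_injective hpp.two_le h1
  have h4 := Nat.pow_right_injective hpp.two_le h2
  have h5 : (b : ℕ) = a * k := by
    apply Nat.pow_right_injective hpp.two_le
    change p' ^ (b : ℕ) = p' ^ (a * k)
    rw [← hb, hK, ← hF, ha, pow_mul]
  obtain ⟨f⟩ := FiniteField.nonempty_algHom_of_finrank_dvd (F := ZMod p') (K := F) (L := K)
    (by rw [h3, h4, h5]; exact Dvd.intro _ rfl)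
  exact ⟨f.toRingHom⟩

/-- elements fixed by the `q`-Frobenius lie in the subfield with `q` elements -/
theorem mem_range_algebraMap_of_pow_card {F K : Type*} [Field F] [Fintype F] [Field K]
    [Algebra F K] (x : K) (hx : x ^ Fintype.card F = x) : x ∈ Set.range (algebraMap F K) := by
  classical
  have hq : 1 < Fintype.card F := Fintype.one_lt_card
  set f : Polynomial K := Polynomial.X ^ Fintype.card F - Polynomial.X with hf
  have hf0 : f ≠ 0 := FiniteField.X_pow_card_sub_X_ne_zero K hq
  have hdeg : f.natDegree = Fintype.card F := FiniteField.X_pow_card_sub_X_natDegree_eq K hq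
  have hsub : (Finset.univ.image (algebraMap F K)) ⊆ f.roots.toFinset := by
    intro y hy
    obtain ⟨c, -, rfl⟩ := Finset.mem_image.1 hy
    rw [Multiset.mem_toFinset, Polynomial.mem_roots hf0, Polynomial.IsRoot.def]
    simp [hf, ← map_pow, FiniteField.pow_card]
  have hcard : f.roots.toFinset.card ≤ (Finset.univ.image (algebraMap F K)).card := by
    rw [Finset.card_image_of_injective _ (algebraMap F K).injective, Finset.card_univ]
    calc f.roots.toFinset.card ≤ Multiset.card f.roots := Multiset.toFinset_card_le _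
      _ ≤ f.natDegree := Polynomial.card_roots' f
      _ = _ := hdeg
  have heq := Finset.eq_of_subset_of_card_le hsub hcard
  have hxr : x ∈ f.roots.toFinset := by
    rw [Multiset.mem_toFinset, Polynomial.mem_roots hf0, Polynomial.IsRoot.def]
    simp [hf, hx]
  rw [← heq] at hxr
  obtain ⟨c, -, rfl⟩ := Finset.mem_image.1 hxr
  exact ⟨c, rfl⟩

end Cfsg.Agent.Lib.Helper14
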