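import Mathlib
import Cfsg.Agent.Lib.Helper14.HermParab
import Cfsg.Agent.Lib.Helper14.SubField
import Cfsg.Agent.Lib.Helper14.Orders

set_option autoImplicit false

namespace Cfsg.Agent.Lib.Helper14

open Module Matrix

variable {F : Type*} [Field F] [Fintype F] {q n : ℕ}

/-- hyperbolic partner of an isotropic vector -/
theorem exists_hyperbolic_partner (hF : Fintype.card F = q ^ 2) (w : Fin n → F) (hw0 : w ≠ 0)
    (hww : Cfsg.hermForm n F q w w = 0) :
    ∃ y, Cfsg.hermForm n F q y w = 1 ∧ Cfsg.hermForm n F q y y = 0 := by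
  obtain ⟨v, hv⟩ : ∃ v, Cfsg.hermForm n F q v w ≠ 0 := by
    by_contra h
    push Not at h
    exact hw0 (eq_zero_of_hermForm_right hF w h)
  obtain ⟨y0, hy0w⟩ : ∃ y0, Cfsg.hermForm n F q y0 w = 1 :=
    ⟨(Cfsg.hermForm n F q v w)⁻¹ • v, by rw [hermForm_smul_left, inv_mul_cancel₀ hv]⟩
  obtain ⟨t, ht⟩ := exists_trace_eq hF 1 one_ne_zero (-Cfsg.hermForm n F q y0 y0)
    (by rw [neg_pow_q hF, hermForm_self_pow hF])
  refine ⟨y0 + t • w, ?_, ?_⟩
  · rw [hermForm_add_left, hy0w, hermForm_smul_left, hww]; ring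
  · rw [hermForm_add_smul_self hF _ _ _ hww, hy0w]
    linear_combination ht

/-- a nonzero isotropic vector in dimension two -/
theorem exists_isotropic_two (hF : Fintype.card F = q ^ 2) :
    ∃ u : Fin 2 → F, u ≠ 0 ∧ Cfsg.hermForm 2 F q u u = 0 := by
  classical
  have h1 := card_norm_eq hF (-1 : F) (by rw [neg_pow_q hF, one_pow])
  rw [if_neg (by simp)] at h1
  have h2 : Nonempty {x : F // x ^ (q + 1) = -1} := by
    by_contra h
    rw [not_nonempty_iff] at h
    rw [Nat.card_of_isEmpty] at h1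
    omega
  obtain ⟨a, ha⟩ := h2
  refine ⟨![1, a], ?_, ?_⟩
  · intro h
    have := congrFun h 0
    simp at this
  · simp only [Cfsg.hermForm, Fin.sum_univ_two, Matrix.cons_val_zero, Matrix.cons_val_one, one_pow,
      mul_one]
    rw [← pow_succ', ha]; ring

/-- a skew hyperbolic frame of the unitary plane -/
theorem exists_skew_frame (hF : Fintype.card F = q ^ 2) :
    ∃ (u v : Fin 2 → F) (ε : F), ε ≠ 0 ∧ ε ^ q = -ε ∧ Cfsg.hermForm 2 F q u u = 0 ∧
      Cfsg.hermForm 2 F q v v = 0 ∧ Cfsg.hermForm 2 F q u v = ε ∧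
      Cfsg.hermForm 2 F q v u = -ε := by
  obtain ⟨u, hu0, huu⟩ := exists_isotropic_two hF
  obtain ⟨y, hyu, hyy⟩ := exists_hyperbolic_partner hF u hu0 huu
  obtain ⟨ε, hε0, hε⟩ := exists_hilbert90 hF (-1) (neg_one_pow_q_succ hF)
  have hεq : ε ^ q = -ε := by linear_combination hε
  have huy : Cfsg.hermForm 2 F q u y = 1 := by rw [← hermForm_swap hF, hyu, one_pow]
  refine ⟨u, (-ε) • y, ε, hε0, hεq, huu, ?_, ?_, ?_⟩
  · rw [hermForm_smul_left, hermForm_smul_right, hyy]; ring
  · rw [hermForm_smul_right, huy, neg_pow_q hF, hεq]; ring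
  · rw [hermForm_smul_left, hyu]; ring

/-- order of `SU_2` -/
theorem card_su_two (hF : Fintype.card F = q ^ 2) :
    Nat.card (Cfsg.SU 2 F q) = q * (q ^ 2 - 1) := by
  have h1 := card_su_mul (n := 2) hF (by norm_num)
  rw [card_gu hF] at h1
  simp only [Finset.prod_range_succ, Finset.prod_range_zero, one_mul] at h1
  rw [if_pos (by decide), if_neg (by decide)] at h1
  norm_num at h1
  have h2 : (q + 1) * Nat.card (Cfsg.SU 2 F q) = (q + 1) * (q * (q ^ 2 - 1)) := by
    rw [h1]; ring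
  exact Nat.eq_of_mul_eq_mul_left (Nat.succ_pos q) h2

/-- order of `SL_2` -/
theorem card_sl_two {K : Type*} [Field K] [Fintype K] (hK : Fintype.card K = q) :
    Nat.card (Matrix.SpecialLinearGroup (Fin 2) K) = q * (q ^ 2 - 1) := by
  have hq : 2 ≤ q := by rw [← hK]; exact Fintype.one_lt_card
  have h1 := card_SL_field (F := K) 2 (by norm_num)
  rw [Fin.prod_univ_two, hK] at h1
  simp only [Fin.val_zero, Fin.val_one, pow_zero, pow_one] at h1
  have h2 : q ^ 2 - q = (q - 1) * q := by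
    rw [Nat.sub_mul, one_mul, sq]
  rw [h2] at h1
  have h3 : (q - 1) * Nat.card (Matrix.SpecialLinearGroup (Fin 2) K) =
      (q - 1) * (q * (q ^ 2 - 1)) := by rw [h1]; ring
  exact Nat.eq_of_mul_eq_mul_left (by omega) h3

theorem su_two_equiv_sl_two {K : Type*} [Field K] [Fintype K] (hF : Fintype.card F = q ^ 2)
    (hK : Fintype.card K = q) :
    Nonempty (Cfsg.SU 2 F q ≃* Matrix.SpecialLinearGroup (Fin 2) K) := by
  classical
  obtain ⟨ι⟩ := exists_ringHom_of_card hK hF (by norm_num)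
  have hι : ∀ c : K, (ι c) ^ q = ι c := by
    intro c
    rw [← map_pow, ← hK, FiniteField.pow_card]
  obtain ⟨u, v, ε, hε0, hεq, huu, hvv, huv, hvu⟩ := exists_skew_frame hF
  let P : Matrix (Fin 2) (Fin 2) F := !![u 0, v 0; u 1, v 1]
  have hP : ∀ a : Fin 2 → F, P *ᵥ a = a 0 • u + a 1 • v := by
    intro a
    ext i
    fin_cases i <;> simp [P, Matrix.mulVec, dotProduct, Fin.sum_univ_two] <;> ring
  have hform : ∀ a b : Fin 2 → F, Cfsg.hermForm 2 F q (P *ᵥ a) (P *ᵥ b) =
      ε * (a 0 * b 1 ^ q - a 1 * b 0 ^ q) := by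
    intro a b
    rw [hP, hP]
    simp only [hermForm_add_left, hermForm_add_right hF, hermForm_smul_left, hermForm_smul_right,
      huu, hvv, huv, hvu]
    ring
  have hdet : P.det ≠ 0 := by
    intro h
    obtain ⟨a, ha0, ha⟩ := Matrix.exists_mulVec_eq_zero_iff.2 h
    apply ha0
    have h0 := hform a ![0, 1]
    have h1 := hform a ![1, 0]
    rw [ha, hermForm_zero_left] at h0 h1
    simp [q_ne_zero hF, hε0] at h0 h1
    ext i
    fin_cases i
    · exact h0
    · exact h1
  have hPu : IsUnit P.det := isUnit_iff_ne_zero.2 hdet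
  have hPP : P⁻¹ * P = 1 := Matrix.nonsing_inv_mul P hPu
  have hPP' : P * P⁻¹ = 1 := Matrix.mul_nonsing_inv P hPu
  let A' : Matrix.SpecialLinearGroup (Fin 2) K → Matrix (Fin 2) (Fin 2) F := fun A => A.1.map ι
  have hA'det : ∀ A, (A' A).det = 1 := by
    intro A
    have := (RingHom.map_det ι A.1).symm
    rw [A.2, map_one] at this
    exact this
  have hA'mul : ∀ A B, A' (A * B) = A' A * A' B := by
    intro A B
    change (A.1 * B.1).map ι = _
    rw [Matrix.map_mul]
  have hpres : ∀ A x y, Cfsg.hermForm 2 F q ((P * A' A * P⁻¹) *ᵥ x) ((P * A' A * P⁻¹) *ᵥ y) =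
      Cfsg.hermForm 2 F q x y := by
    intro A x y
    have hx : x = P *ᵥ (P⁻¹ *ᵥ x) := by rw [Matrix.mulVec_mulVec, hPP', Matrix.one_mulVec]
    have hy : y = P *ᵥ (P⁻¹ *ᵥ y) := by rw [Matrix.mulVec_mulVec, hPP', Matrix.one_mulVec]
    conv_rhs => rw [hx, hy]
    rw [← Matrix.mulVec_mulVec, ← Matrix.mulVec_mulVec, ← Matrix.mulVec_mulVec,
      ← Matrix.mulVec_mulVec, hform, hform]
    generalize P⁻¹ *ᵥ x = a
    generalize P⁻¹ *ᵥ y = b
    have hd := hA'det A
    rw [Matrix.det_fin_two] at hd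
    simp only [Matrix.mulVec, dotProduct, Fin.sum_univ_two, add_pow_q hF, mul_pow]
    have e : ∀ i j, (A' A i j) ^ q = A' A i j := fun i j => hι _
    rw [e, e, e, e]
    linear_combination ε * (a 0 * b 1 ^ q - a 1 * b 0 ^ q) * hd
  let φ : Matrix.SpecialLinearGroup (Fin 2) K →* Cfsg.SU 2 F q :=
    { toFun := fun A => suMk (P * A' A * P⁻¹) (by
        rw [Matrix.det_mul, Matrix.det_mul, hA'det, mul_one, ← Matrix.det_mul, hPP',
          Matrix.det_one]) (hpres A)
      map_one' := by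
        apply Subtype.ext
        apply Subtype.ext
        change P * (1 : Matrix (Fin 2) (Fin 2) K).map ι * P⁻¹ = 1
        rw [Matrix.map_one _ (map_zero ι) (map_one ι), Matrix.mul_one, hPP']
      map_mul' := fun A B => by
        apply Subtype.ext
        apply Subtype.ext
        change P * A' (A * B) * P⁻¹ = (P * A' A * P⁻¹) * (P * A' B * P⁻¹)
        rw [hA'mul]
        calc P * (A' A * A' B) * P⁻¹ = P * A' A * 1 * A' B * P⁻¹ := by
              simp only [Matrix.mul_assoc, Matrix.one_mul]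
          _ = _ := by rw [← hPP]; simp only [Matrix.mul_assoc] }
  have hinj : Function.Injective φ := by
    intro A B h
    have h1 : P * A' A * P⁻¹ = P * A' B * P⁻¹ := congrArg (fun s => s.1.1) h
    have h2 : A' A = A' B := by
      have := congrArg (fun M => P⁻¹ * M * P) h1
      simp only [Matrix.mul_assoc, hPP, Matrix.mul_one] at this
      simpa only [← Matrix.mul_assoc, hPP, Matrix.one_mul] using this
    apply Subtype.ext
    ext i j
    exact ι.injective (congrFun (congrFun h2 i) j)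
  have hbij : Function.Bijective φ := by
    rw [Nat.bijective_iff_injective_and_card]
    exact ⟨hinj, by rw [card_su_two hF, card_sl_two hK]⟩
  exact ⟨(MulEquiv.ofBijective φ hbij).symm⟩

end Cfsg.Agent.Lib.Helper14
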